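import Mathlib

/-!
Klinger-Mason: a module in characteristic three for a central product of two `SL(2,3)`.
-/

set_option autoImplicit false

namespace Cfsg.Agent.Lib.KlingerMason

variable {M : Type*} [AddCommGroup M] [Module (ZMod 3) M]

/-- Bring an equation into scalars of `ZMod 3`. -/
theorem of_one_smul {x y : M} (h : (1 : ZMod 3) • x = (1 : ZMod 3) • y) : x = y := by
  rwa [one_smul, one_smul] at h

/-- Linearised relations of two commuting copies of `SL(2,3)` with common central involution `-1`. -/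
structure PairRep (I1 J1 S1 I2 J2 S2 : M →+ M) : Prop where
  i1i1 : ∀ v, I1 (I1 v) = -v
  j1j1 : ∀ v, J1 (J1 v) = -v
  j1i1 : ∀ v, J1 (I1 v) = -(I1 (J1 v))
  s1i1 : ∀ v, S1 (I1 v) = J1 (S1 v)
  s1j1 : ∀ v, S1 (J1 v) = I1 (J1 (S1 v))
  s1s1 : ∀ v, S1 (S1 (S1 v)) = v
  i2i2 : ∀ v, I2 (I2 v) = -v
  j2j2 : ∀ v, J2 (J2 v) = -v
  j2i2 : ∀ v, J2 (I2 v) = -(I2 (J2 v))
  s2i2 : ∀ v, S2 (I2 v) = J2 (S2 v)
  s2j2 : ∀ v, S2 (J2 v) = I2 (J2 (S2 v))
  s2s2 : ∀ v, S2 (S2 (S2 v)) = v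
  i2i1 : ∀ v, I2 (I1 v) = I1 (I2 v)
  i2j1 : ∀ v, I2 (J1 v) = J1 (I2 v)
  j2i1 : ∀ v, J2 (I1 v) = I1 (J2 v)
  j2j1 : ∀ v, J2 (J1 v) = J1 (J2 v)
  i2s1 : ∀ v, I2 (S1 v) = S1 (I2 v)
  j2s1 : ∀ v, J2 (S1 v) = S1 (J2 v)
  s2i1 : ∀ v, S2 (I1 v) = I1 (S2 v)
  s2j1 : ∀ v, S2 (J1 v) = J1 (S2 v)
  s2s1 : ∀ v, S2 (S1 v) = S1 (S2 v)

/-- The good vector. -/
structure GoodVec (I1 J1 S1 I2 J2 S2 : M →+ M) (q : M) : Prop where
  ne : q ≠ 0
  i2 : I2 q = -(I1 q)
  j2 : J2 q = -(J1 q)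
  s1 : S1 q = q + I1 q + J1 q + I1 (J1 q)
  s2 : S2 q = q - I1 q - J1 q - I1 (J1 q)

theorem exists_fixed_of_cube (W : M → Prop) (f : M → M)
    (hadd : ∀ x y, f (x + y) = f x + f y) (hW : ∀ x, W x → W (f x))
    (hsub : ∀ x y, W x → W y → W (x - y)) (hcube : ∀ x, f (f (f x)) = x)
    {w : M} (hw : W w) (hw0 : w ≠ 0) : ∃ q, W q ∧ q ≠ 0 ∧ f q = q := by
  have hf : ∀ x y, f (x - y) = f x - f y := fun x y =>
    map_sub (AddMonoidHom.mk' f hadd) x y
  set D : M → M := fun x => f x - x with hD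
  have hDW : ∀ x, W x → W (D x) := fun x hx => hsub _ _ (hW x hx) hx
  by_cases h1 : D w = 0
  · exact ⟨w, hw, hw0, sub_eq_zero.1 h1⟩
  by_cases h2 : D (D w) = 0
  · exact ⟨D w, hDW w hw, h1, sub_eq_zero.1 h2⟩
  refine ⟨D (D w), hDW _ (hDW _ hw), h2, sub_eq_zero.1 ?_⟩
  simp only [hD, hf, hcube]
  apply of_one_smul
  match_scalars <;> decide

theorem PairRep.exists_good {I1 J1 S1 I2 J2 S2 : M →+ M} (h : PairRep I1 J1 S1 I2 J2 S2)
    [Nontrivial M] : ∃ q, GoodVec I1 J1 S1 I2 J2 S2 q := by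
  classical
  obtain ⟨a1, a2, a3, a4, a5, a6, b1, b2, b3, b4, b5, b6, c1, c2, c3, c4, c5, c6, c7, c8, c9⟩ := h
  obtain ⟨v0, hv0⟩ := exists_ne (0 : M)
  obtain ⟨v1, hv1, hv1t⟩ : ∃ v : M, v ≠ 0 ∧ I1 (I2 v) = v := by
    by_cases h0 : v0 + I1 (I2 v0) = 0
    · refine ⟨J1 v0, fun h1 => hv0 ?_, ?_⟩
      · have := congrArg J1 h1
        rw [a2, map_zero, neg_eq_zero] at this; exact this
      · have e : I1 (I2 v0) = -v0 := eq_neg_of_add_eq_zero_right h0
        calc I1 (I2 (J1 v0)) = -(J1 (I1 (I2 v0))) := by rw [c2, a3, neg_neg]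
          _ = J1 v0 := by rw [e, map_neg, neg_neg]
    · refine ⟨_, h0, ?_⟩
      rw [map_add, map_add, c1, a1, b1]
      abel
  obtain ⟨w, hw, hwt, hws⟩ : ∃ v : M, v ≠ 0 ∧ I1 (I2 v) = v ∧ J1 (J2 v) = v := by
    by_cases h0 : v1 + J1 (J2 v1) = 0
    · refine ⟨I1 v1, fun h1 => hv1 ?_, ?_, ?_⟩
      · have := congrArg I1 h1
        rw [a1, map_zero, neg_eq_zero] at this; exact this
      · rw [c1, hv1t]
      · rw [c3, a3, eq_neg_of_add_eq_zero_right h0, map_neg, neg_neg]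
    · refine ⟨_, h0, ?_, ?_⟩
      · have e : I1 (I2 (J1 (J2 v1))) = J1 (J2 (I1 (I2 v1))) := by
          simp only [map_neg, c1, c2, c3, c4, a3, b3, neg_neg]
        rw [map_add, map_add, e, hv1t]
      · simp only [map_add, c4, a2, b2, map_neg, neg_neg]
        abel
  let W : M → Prop := fun v => I1 (I2 v) = v ∧ J1 (J2 v) = v
  let μ : M → M := fun v => S1 v - I1 (S1 v) - J1 (S1 v) - I1 (J1 (S1 v))
  let ν : M → M := fun v => S2 v + I1 (S2 v) + J1 (S2 v) + I1 (J1 (S2 v))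
  have hWsub : ∀ x y, W x → W y → W (x - y) := fun x y hx hy => by
    refine ⟨?_, ?_⟩
    · simp only [map_sub, hx.1, hy.1]
    · simp only [map_sub, hx.2, hy.2]
  have hI2 : ∀ v, W v → I2 v = -(I1 v) := fun v hv => by
    have := congrArg I1 hv.1
    rw [a1] at this
    exact neg_eq_iff_eq_neg.1 this
  have hJ2 : ∀ v, W v → J2 v = -(J1 v) := fun v hv => by
    have := congrArg J1 hv.2
    rw [a2] at this
    exact neg_eq_iff_eq_neg.1 this
  have hback : ∀ v, I2 v = -(I1 v) → J2 v = -(J1 v) → W v := fun v hi hj =>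
    ⟨by rw [hi, map_neg, a1, neg_neg], by rw [hj, map_neg, a2, neg_neg]⟩
  have hμW : ∀ v, W v → W (μ v) := fun v hv => by
    refine hback _ ?_ ?_
    · simp only [μ, map_sub, map_neg, c1, c2, c5, hI2 v hv, a4, a1, a2, a3, neg_neg]
      apply of_one_smul
      match_scalars <;> decide
    · simp only [μ, map_sub, map_neg, c3, c4, c6, hJ2 v hv, a5, a1, a2, a3, neg_neg]
      apply of_one_smul
      match_scalars <;> decide
  have hνW : ∀ v, W v → W (ν v) := fun v hv => by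
    -- `J2 (S2 v)` and `I2 (S2 v)` are found from `S2 ∘ I2` and `S2 ∘ J2`
    have e1 : J2 (S2 v) = -(I1 (S2 v)) := by rw [← b4, hI2 v hv, map_neg, c7]
    have e3 : I2 (J2 (S2 v)) = -(J1 (S2 v)) := by rw [← b5, hJ2 v hv, map_neg, c8]
    have e4 : I2 (S2 v) = -(I1 (J1 (S2 v))) := by
      have h' : I1 (I2 (S2 v)) = J1 (S2 v) := by
        have := e3
        rw [e1, map_neg, c1, neg_inj] at this
        exact this
      have := congrArg I1 h'
      rw [a1] at this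
      exact neg_eq_iff_eq_neg.1 this
    refine hback _ ?_ ?_
    · simp only [ν, map_add, map_neg, c1, c2, e4, a1, a2, a3, neg_neg]
      apply of_one_smul
      match_scalars <;> decide
    · simp only [ν, map_add, map_neg, c3, c4, e1, a1, a2, a3, neg_neg]
      apply of_one_smul
      match_scalars <;> decide
  have hμadd : ∀ x y, μ (x + y) = μ x + μ y := fun x y => by simp only [μ, map_add]; abel
  have hνadd : ∀ x y, ν (x + y) = ν x + ν y := fun x y => by simp only [ν, map_add]; abel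
  have hμ3 : ∀ x, μ (μ (μ x)) = x := fun x => by
    simp only [μ, map_sub, map_neg, a1, a2, a3, a4, a5, a6, neg_neg]
    apply of_one_smul
    match_scalars <;> decide
  have hν3 : ∀ x, ν (ν (ν x)) = x := fun x => by
    simp only [ν, map_add, map_neg, c7, c8, a1, a2, a3, b6, neg_neg]
    apply of_one_smul
    match_scalars <;> decide
  obtain ⟨p1, hp1W, hp10, hp1μ⟩ := exists_fixed_of_cube W μ hμadd hμW hWsub hμ3 ⟨hwt, hws⟩ hw
  have hμν : ∀ x, μ (ν x) = ν (μ x) := fun x => by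
    simp only [μ, ν, map_add, map_sub, map_neg, c7, c8, c9, a1, a2, a3, a4, a5, neg_neg]
    apply of_one_smul
    match_scalars <;> decide
  obtain ⟨q, ⟨hqW, hqμ⟩, hq0, hqν⟩ := exists_fixed_of_cube (fun v => W v ∧ μ v = v) ν hνadd
    (fun x hx => ⟨hνW x hx.1, by rw [hμν, hx.2]⟩)
    (fun x y hx hy => ⟨hWsub x y hx.1 hy.1, by
      show μ (x - y) = x - y
      rw [show μ (x - y) = μ x - μ y from map_sub (AddMonoidHom.mk' μ hμadd) x y, hx.2, hy.2]⟩)
    hν3 ⟨hp1W, hp1μ⟩ hp10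
  refine ⟨q, hq0, hI2 q hqW, hJ2 q hqW, ?_, ?_⟩
  · have h1 : (fun v => v + I1 v + J1 v + I1 (J1 v)) (μ q) = S1 q := by
      simp only [μ, map_sub, map_neg, a1, a2, a3, neg_neg]
      apply of_one_smul
      match_scalars <;> decide
    rw [hqμ] at h1
    exact h1.symm
  · have h1 : (fun v => v - I1 v - J1 v - I1 (J1 v)) (ν q) = S2 q := by
      simp only [ν, map_add, map_neg, a1, a2, a3, neg_neg]
      apply of_one_smul
      match_scalars <;> decide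
    rw [hqν] at h1
    exact h1.symm

theorem PairRep.fix_add {I1 J1 S1 I2 J2 S2 : M →+ M} (h : PairRep I1 J1 S1 I2 J2 S2) {q : M}
    (hq : GoodVec I1 J1 S1 I2 J2 S2 q) :
    -(S1 (I2 (J2 (S2 (S2 (I2 (J2 (q + I1 q)))))))) = q + I1 q := by
  obtain ⟨a1, a2, a3, a4, a5, a6, b1, b2, b3, b4, b5, b6, c1, c2, c3, c4, c5, c6, c7, c8, c9⟩ := h
  obtain ⟨-, e1, e2, e3, e4⟩ := hq
  simp only [map_add, map_sub, map_neg, c1, c2, c3, c4, c7, c8, e1, e2, e3, e4, a1, a2, a3, a4, a5,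
    neg_neg]
  apply of_one_smul
  match_scalars <;> decide

theorem PairRep.fix_prod {I1 J1 S1 I2 J2 S2 : M →+ M} (h : PairRep I1 J1 S1 I2 J2 S2) {q : M}
    (hq : GoodVec I1 J1 S1 I2 J2 S2 q) : S1 (S2 q) = q := by
  obtain ⟨a1, a2, a3, a4, a5, a6, b1, b2, b3, b4, b5, b6, c1, c2, c3, c4, c5, c6, c7, c8, c9⟩ := h
  obtain ⟨-, e1, e2, e3, e4⟩ := hq
  simp only [map_add, map_sub, map_neg, e4, e3, a1, a2, a3, a4, a5, neg_neg]
  apply of_one_smul
  match_scalars <;> decide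

end Cfsg.Agent.Lib.KlingerMason
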