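import Mathlib
import Cfsg.Prelude.Def_LocalEven
import Cfsg.Prelude.Def_CaseTheorems
import Cfsg.Prelude.Def_Local
import Cfsg.Prelude.Def_Transfer
import Cfsg.Prelude.Def_Amalgam
import Cfsg.Agent.Lib.CharP.Basic
import Cfsg.Agent.Lib.LocalChar.Basic
import Cfsg.Agent.Lib.PGroup.Critical
import Cfsg.Agent.Lib.CoprimeOmega.Basic
import Cfsg.Agent.S1349

/-!
Klinger-Mason: groups of characteristic 2 type and of local characteristic `p`.
The rank bound for elementary 2-groups centralising an elementary `p`-group, and the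
action of an involution on the faithful `p`-group of such a centraliser.
-/

set_option autoImplicit false

namespace Cfsg.Agent.Lib.KlingerMason

open Subgroup
open scoped commutatorElement

variable {G : Type*} [Group G] {p : ℕ}

/-- Every elementary abelian `p`-subgroup centralising an involution has order at most `p ^ m`. -/
def RankBound (p m : ℕ) (G : Type*) [Group G] : Prop :=
  ∀ F : Subgroup G, IsElementaryAbelian p F → ∀ u : G, u ≠ 1 → u * u = 1 →
    F ≤ centralizer ({u} : Set G) → Nat.card F ≤ p ^ m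

/-- The part centralising `E` of the `p`-core of the normaliser of `E`. -/
noncomputable def core0 (p : ℕ) (E : Subgroup G) : Subgroup G :=
  pCoreOf p (normalizer (E : Set G)) ⊓ centralizer (E : Set G)

theorem core0_isPGroup (E : Subgroup G) : IsPGroup p (core0 p E) :=
  (CharP.pCoreOf_isPGroup _).to_le inf_le_left

theorem core0_le_centralizer (E : Subgroup G) : core0 p E ≤ centralizer (E : Set G) := inf_le_right

theorem centralizer_le_normalizer_core0 (E : Subgroup G) :
    centralizer (E : Set G) ≤ normalizer ((core0 p E : Subgroup G) : Set G) :=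
  LocalChar.le_normalizer_inf_of_le
    ((centralizer_le_normalizer (E : Set G)).trans (CharP.le_normalizer_pCoreOf _)) le_normalizer

theorem isPGroup_of_pow {E : Subgroup G} (h : ∀ e ∈ E, e ^ p = 1) : IsPGroup p E := fun e =>
  ⟨1, Subtype.ext (by rw [pow_one]; exact h _ e.2)⟩

theorem le_centralizer_self {E : Subgroup G} (hE : IsElementaryAbelian p E) :
    E ≤ centralizer (E : Set G) := fun x hx => mem_centralizer_iff.2 fun y hy =>
  congrArg Subtype.val (hE.1.is_comm.comm (⟨y, hy⟩ : E) ⟨x, hx⟩)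

theorem le_core0 {E : Subgroup G} (hE : IsElementaryAbelian p E) : E ≤ core0 p E :=
  le_inf (CharP.le_pCoreOf le_normalizer (isPGroup_of_pow hE.2) le_rfl) (le_centralizer_self hE)

theorem one_lt_of_ne_bot [Finite G] {E : Subgroup G} (hne : E ≠ ⊥) : 1 < Nat.card E :=
  (Subgroup.one_lt_card_iff_ne_bot E).2 hne

/-- Nothing of order prime to `p` in `C(E)` centralises `core0 p E`. -/
theorem eq_one_of_centralizes_core0 [Finite G] [hp : Fact p.Prime]
    (hGp : IsOfLocalCharacteristic p G) {E : Subgroup G} (hE : IsElementaryAbelian p E)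
    (hne : E ≠ ⊥) {c : G} (hc : c ∈ centralizer (E : Set G)) (hcop : (orderOf c).Coprime p)
    (h : c ∈ centralizer ((core0 p E : Subgroup G) : Set G)) : c = 1 := by
  have hcN : c ∈ normalizer (E : Set G) := centralizer_le_normalizer _ hc
  refine CharP.eq_one_of_centralizes_pCoreOf (hGp.2 E (isPGroup_of_pow hE.2) hne) hcN hcop ?_
  exact LocalChar.mem_centralizer_of_AxB (CharP.pCoreOf_isPGroup _) (isPGroup_of_pow hE.2) hcop
    (le_normalizer.trans (CharP.le_normalizer_pCoreOf _))
    (CharP.le_normalizer_pCoreOf _ hcN) hc h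

theorem two_mul_self {G : Type*} [Group G] {U : Subgroup G} (hU : IsElementaryAbelian 2 U) {u : G}
    (hu : u ∈ U) : u * u = 1 := by rw [← pow_two]; exact hU.2 u hu

/-- A dihedral pair yields an element of order `p` inverted by the involution. -/
theorem exists_inverted [Finite G] [hp : Fact p.Prime] {A L R : Subgroup G} (hR : IsPGroup p R)
    (hLR : L ≤ R) (hp2 : p ≠ 2) (hA : Nat.card A = 2) {n : ℕ} (hn : Odd n) (hn3 : 3 ≤ n)
    (h : Nonempty (↥(A ⊔ L) ≃* DihedralGroup n)) :
    ∃ a ∈ A, a ≠ 1 ∧ a * a = 1 ∧ ∃ l ∈ L, l ≠ 1 ∧ l ^ p = 1 ∧ a * l * a⁻¹ = l⁻¹ := by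
  obtain ⟨e⟩ := h
  have hL : L ≠ ⊥ := by
    rintro rfl
    have h1 := Nat.card_congr e.toEquiv
    rw [sup_bot_eq, hA, DihedralGroup.nat_card] at h1
    omega
  obtain ⟨l, hl⟩ := exists_prime_orderOf_dvd_card' p
    (((hR.to_le hLR).card_eq_or_dvd).resolve_left fun h1 => hL (eq_bot_of_card_eq _ h1))
  haveI : Fact (Nat.Prime 2) := ⟨Nat.prime_two⟩
  obtain ⟨a, ha⟩ := exists_prime_orderOf_dvd_card' 2 (G := A) (by rw [hA])
  rw [← Subgroup.orderOf_coe] at hl ha
  have ha1 : (a : G) ≠ 1 := fun h0 => by rw [h0, orderOf_one] at ha; omega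
  have haa : (a : G) * a = 1 := by rw [← pow_two, ← ha]; exact pow_orderOf_eq_one _
  have hl1 : (l : G) ≠ 1 := fun h0 => hp.out.ne_one (by rw [h0, orderOf_one] at hl; exact hl.symm)
  refine ⟨a, a.2, ha1, haa, l, l.2, hl1, hl ▸ pow_orderOf_eq_one _, ?_⟩
  set a' : ↥(A ⊔ L) := ⟨a, le_sup_left (a := A) a.2⟩ with ha'
  set l' : ↥(A ⊔ L) := ⟨l, le_sup_right (a := A) l.2⟩ with hl'
  have hoa : orderOf (e a') = 2 := by
    rw [show orderOf (e a') = orderOf a' from e.orderOf_eq a', ← Subgroup.orderOf_coe, ha]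
  have hol : orderOf (e l') = p := by
    rw [show orderOf (e l') = orderOf l' from e.orderOf_eq l', ← Subgroup.orderOf_coe, hl]
  have key : e a' * e l' * (e a')⁻¹ = (e l')⁻¹ := by
    cases hx : e a' with
    | r i =>
      exfalso
      rw [hx] at hoa
      haveI : NeZero n := ⟨by omega⟩
      rw [DihedralGroup.orderOf_r] at hoa
      have h2 : (2 : ℕ) ∣ n := hoa ▸ Nat.div_dvd_of_dvd (Nat.gcd_dvd_left _ _)
      obtain ⟨k, hk⟩ := hn
      omega
    | sr i =>
      cases hy : e l' with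
      | sr j =>
        rw [hy, DihedralGroup.orderOf_sr] at hol
        exact absurd hol.symm hp2
      | r j =>
        simp [DihedralGroup.inv_sr, DihedralGroup.inv_r, DihedralGroup.sr_mul_r,
          DihedralGroup.sr_mul_sr]
  have : a' * l' * a'⁻¹ = l'⁻¹ := e.injective (by simp only [map_mul, map_inv]; exact key)
  exact congrArg Subtype.val this

theorem eq_one_of_inverted [Fact p.Prime] (hp2 : p ≠ 2) {l : G} (hl : l ^ p = 1)
    (h : l⁻¹ = l) : l = 1 := by
  have h2 : l ^ 2 = 1 := by rw [pow_two]; nth_rw 1 [← h]; exact inv_mul_cancel l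
  have hg : l ^ Nat.gcd 2 p = 1 := pow_gcd_eq_one.2 ⟨h2, hl⟩
  rwa [Nat.coprime_primes Nat.prime_two Fact.out |>.2 (Ne.symm hp2), pow_one] at hg

/-- The rank inequality. -/
theorem rank_bound [Finite G] [hp : Fact p.Prime] (hp2 : p ≠ 2)
    (hGp : IsOfLocalCharacteristic p G) {m : ℕ} (hm : RankBound p m G)
    {E U : Subgroup G} (hE : IsElementaryAbelian p E) (hne : E ≠ ⊥) {e u : ℕ}
    (he : p ^ e ≤ Nat.card E) (hU : IsElementaryAbelian 2 U) (hu : Nat.card U = 2 ^ u) (hu1 : 1 ≤ u)
    (hUE : U ≤ centralizer (E : Set G)) : e + u ≤ m + 1 := by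
  classical
  set L := core0 p E with hLdef
  have hLp : IsPGroup p L := core0_isPGroup E
  have hLodd : Odd (Nat.card L) := by
    obtain ⟨k, hk⟩ := IsPGroup.iff_card.1 hLp
    exact hk ▸ (hp.out.odd_of_ne_two hp2).pow
  have hLs : Group.IsSolvable L := by
    haveI := hLp.isNilpotent
    infer_instance
  have hfaith : U ⊓ centralizer (L : Set G) = ⊥ := by
    refine (eq_bot_iff).2 fun c hc => mem_bot.2 ?_
    refine eq_one_of_centralizes_core0 hGp hE hne (hUE hc.1) ?_ hc.2
    exact ((Nat.coprime_primes Nat.prime_two hp.out).2 (Ne.symm hp2)).coprime_dvd_left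
      (orderOf_dvd_of_pow_eq_one (hU.2 c hc.1))
  obtain ⟨Ai, Li, n, hdata, hsup, hcomm⟩ := Cfsg.Agent.S1349.result L U hLs hLodd hU u hu1 hu
    (hUE.trans (centralizer_le_normalizer_core0 E)) hfaith
  have hsel : ∀ i, ∃ a ∈ Ai i, a ≠ 1 ∧ a * a = 1 ∧
      ∃ l ∈ Li i, l ≠ 1 ∧ l ^ p = 1 ∧ a * l * a⁻¹ = l⁻¹ := fun i =>
    exists_inverted hLp (hdata i).2.2.1 hp2 (hdata i).2.1 (hdata i).2.2.2.1 (hdata i).2.2.2.2.1
      (hdata i).2.2.2.2.2
  choose a haA ha1 haa l hlL hl1 hlp hinv using hsel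
  have hlE : ∀ i, ∀ x ∈ E, x * l i = l i * x := fun i x hx =>
    mem_centralizer_iff.1 (core0_le_centralizer E ((hdata i).2.2.1 (hlL i))) x hx
  have haE : ∀ i, ∀ x ∈ E, x * a i = a i * x := fun i x hx =>
    mem_centralizer_iff.1 (hUE ((hdata i).1 (haA i))) x hx
  have hal : ∀ i j, i ≠ j → a i * l j = l j * a i := fun i j hij =>
    hcomm i j hij _ (mem_sup_left (haA i)) _ (mem_sup_right (hlL j))
  have hll : ∀ i j, l i * l j = l j * l i := by
    intro i j
    rcases eq_or_ne i j with rfl | hij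
    · rfl
    · exact hcomm i j hij _ (mem_sup_right (hlL i)) _ (mem_sup_right (hlL j))
  -- adjoin the `l i` one at a time
  set T : Finset (Fin u) → Set G := fun S => (E : Set G) ∪ l '' (S : Set (Fin u)) with hT
  have hTc : ∀ S, ∀ x ∈ T S, ∀ y ∈ T S, x * y = y * x := by
    rintro S x (hx | ⟨i, -, rfl⟩) y (hy | ⟨j, -, rfl⟩)
    · exact congrArg Subtype.val (hE.1.is_comm.comm (⟨x, hx⟩ : E) ⟨y, hy⟩)
    · exact hlE j x hx
    · exact (hlE i y hy).symm
    · exact hll i j
  have hTp : ∀ S, ∀ x ∈ T S, x ^ p = 1 := by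
    rintro S x (hx | ⟨i, -, rfl⟩)
    · exact hE.2 x hx
    · exact hlp i
  have hFel : ∀ S, IsElementaryAbelian p (closure (T S)) := by
    intro S
    haveI hc : IsMulCommutative (closure (T S)) := Subgroup.isMulCommutative_closure (hTc S)
    refine ⟨hc, fun x hx => ?_⟩
    induction hx using closure_induction with
    | mem y hy => exact hTp S y hy
    | one => exact one_pow _
    | mul y z hy hz ih1 ih2 =>
      have hyz : Commute y z := congrArg Subtype.val
        (hc.is_comm.comm (⟨y, hy⟩ : closure (T S)) ⟨z, hz⟩)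
      rw [hyz.mul_pow, ih1, ih2, one_mul]
    | inv y _ ih => rw [inv_pow, ih, inv_one]
  have hfix : ∀ S i, i ∉ S → closure (T S) ≤ centralizer ({a i} : Set G) := by
    intro S i hi
    rw [closure_le]
    rintro x (hx | ⟨j, hj, rfl⟩)
    · exact mem_centralizer_singleton_iff.2 (haE i x hx)
    · exact mem_centralizer_singleton_iff.2 (hal i j (fun h => hi (h ▸ hj))).symm
  have hcard : ∀ S : Finset (Fin u), p ^ (e + S.card) ≤ Nat.card (closure (T S)) := by
    intro S
    induction S using Finset.induction_on with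
    | empty =>
      refine he.trans (Nat.le_of_dvd Nat.card_pos (card_dvd_of_le fun x hx => subset_closure ?_))
      exact Or.inl hx
    | @insert i S hi ih =>
      have hle : closure (T S) ≤ closure (T (insert i S)) := closure_mono (by
        rintro x (hx | ⟨j, hj, rfl⟩)
        · exact Or.inl hx
        · exact Or.inr ⟨j, Finset.mem_insert_of_mem hj, rfl⟩)
      have hnot : l i ∉ closure (T S) := by
        intro hmem
        have h := (mem_centralizer_singleton_iff.1 (hfix S i hi hmem))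
        have h2 : a i * l i * (a i)⁻¹ = l i := by rw [← h]; group
        exact hl1 i (eq_one_of_inverted hp2 (hlp i) ((hinv i).symm.trans h2))
      obtain ⟨k, hk⟩ := IsPGroup.iff_card.1 (isPGroup_of_pow (hFel (insert i S)).2)
      have hlt : Nat.card (closure (T S)) < p ^ k := by
        rw [← hk]
        refine lt_of_le_of_ne (Nat.le_of_dvd Nat.card_pos (card_dvd_of_le hle)) fun h => hnot ?_
        rw [Subgroup.eq_of_le_of_card_ge hle h.ge]
        exact subset_closure (Or.inr ⟨i, Finset.mem_insert_self _ _, rfl⟩)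
      rw [hk, Finset.card_insert_of_notMem hi]
      refine Nat.pow_le_pow_right hp.out.pos ?_
      have : e + S.card < k := (Nat.pow_lt_pow_iff_right hp.out.one_lt).1 (ih.trans_lt hlt)
      omega
  set i0 : Fin u := ⟨0, hu1⟩
  have h1 := (hcard (Finset.univ.erase i0)).trans
    (hm _ (hFel _) (a i0) (ha1 i0) (haa i0) (hfix _ i0 (Finset.notMem_erase _ _)))
  rw [Finset.card_erase_of_mem (Finset.mem_univ _), Finset.card_univ, Fintype.card_fin] at h1
  have := (Nat.pow_le_pow_iff_right hp.out.one_lt).1 h1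
  omega

/-- A subgroup of exponent `p` of `core0 p E`, normalised by `C(E)`, on which every element of
order prime to `p` of `C(E)` other than `1` acts nontrivially. -/
theorem exists_omega [Finite G] [hp : Fact p.Prime] (hp2 : p ≠ 2)
    (hGp : IsOfLocalCharacteristic p G) {E : Subgroup G} (hE : IsElementaryAbelian p E)
    (hne : E ≠ ⊥) :
    ∃ H : Subgroup G, H ≤ core0 p E ∧ (∀ h ∈ H, h ^ p = 1) ∧
      centralizer (E : Set G) ≤ normalizer (H : Set G) ∧
      ∀ c ∈ centralizer (E : Set G), (orderOf c).Coprime p → (∀ h ∈ H, c * h = h * c) → c = 1 := by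
  set L := core0 p E with hLdef
  have hLp : IsPGroup p L := core0_isPGroup E
  obtain ⟨C, hC⟩ := Critical.exists_critical (G := L) hLp
  haveI := hC.char
  set D : Subgroup G := C.map L.subtype with hD
  have hDL : D ≤ L := map_subtype_le _
  have hDn : centralizer (E : Set G) ≤ normalizer (D : Set G) :=
    (centralizer_le_normalizer_core0 E).trans
      (Coprime.normalizer_le_normalizer_map_of_characteristic C)
  have hcl : ∀ x ∈ D, ∀ y ∈ D, (x ^ p * y = y * x ^ p) ∧ ∀ w ∈ D, ⁅x, y⁆ * w = w * ⁅x, y⁆ := by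
    rintro _ ⟨x, hx, rfl⟩ _ ⟨y, hy, rfl⟩
    refine ⟨?_, ?_⟩
    · have h := mem_centralizer_iff.1 (hC.pow_mem x hx).2 y hy
      simpa using (congrArg (L.subtype) h).symm
    · rintro _ ⟨w, hw, rfl⟩
      have h := mem_centralizer_iff.1 (hC.comm_le (commutator_mem_commutator hx (mem_top y))).2 w hw
      simpa [map_commutatorElement, commutatorElement_def] using (congrArg (L.subtype) h).symm
  have hmul : ∀ x ∈ D, ∀ y ∈ D, (x * y) ^ p = x ^ p * y ^ p := by
    intro x hx y hy
    set c := ⁅x⁻¹, y⁻¹⁆ with hc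
    have hcD := (hcl _ (inv_mem hx) _ (inv_mem hy)).2
    have hswap : y * x = x * y * ⁅y⁻¹, x⁻¹⁆ := by simp only [commutatorElement_def]; group
    set d := ⁅y⁻¹, x⁻¹⁆ with hd
    have hdD := (hcl _ (inv_mem hy) _ (inv_mem hx)).2
    have hdp : d ^ p = 1 := by
      have hyp : ∀ k : ℕ, y ^ k * x = x * y ^ k * d ^ k := by
        intro k
        induction k with
        | zero => simp
        | succ k ih =>
          calc y ^ (k + 1) * x = y ^ k * (y * x) := by rw [pow_succ, mul_assoc]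
            _ = (y ^ k * x) * (y * d) := by rw [hswap]; group
            _ = x * y ^ k * (d ^ k * y) * d := by rw [ih]; group
            _ = x * y ^ k * (y * d ^ k) * d := by rw [((show Commute d y from hdD y hy).pow_left k).eq]
            _ = x * y ^ (k + 1) * d ^ (k + 1) := by rw [pow_succ, pow_succ]; group
      have h1 := hyp p
      rw [(hcl y hy x hx).1] at h1
      simpa using h1
    rw [CoprimeOmega.mul_pow_of_commute (c := d) hswap (hdD x hx) (hdD y hy)]
    obtain ⟨k, hk⟩ := hp.out.dvd_choose_self (two_ne_zero) (lt_of_le_of_ne hp.out.two_le hp2.symm)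
    rw [hk, pow_mul, hdp, one_pow, mul_one]
  let H : Subgroup G :=
    { carrier := {x | x ∈ D ∧ x ^ p = 1}
      one_mem' := ⟨one_mem _, one_pow _⟩
      mul_mem' := fun {x y} hx hy => ⟨mul_mem hx.1 hy.1, by
        rw [hmul x hx.1 y hy.1, hx.2, hy.2, one_mul]⟩
      inv_mem' := fun {x} hx => ⟨inv_mem hx.1, by rw [inv_pow, hx.2, inv_one]⟩ }
  refine ⟨H, fun x hx => hDL hx.1, fun x hx => hx.2, ?_, ?_⟩
  · refine Subgroup.le_normalizer_iff.2 fun g hg x hx => ⟨?_, ?_⟩
    · exact LocalChar.conj_mem_of_mem_normalizer (hDn hg) hx.1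
    · rw [conj_pow, hx.2, mul_one, mul_inv_cancel]
  · intro c hc hcop hfix
    refine eq_one_of_centralizes_core0 hGp hE hne hc hcop ?_
    have hcD := CoprimeOmega.commute_of_commute_order_p hp2 hcop (hLp.to_le hDL)
      (fun x hx => LocalChar.conj_mem_of_mem_normalizer (hDn hc) hx)
      (fun x hx hxp => hfix x ⟨hx, hxp⟩)
    have key : zpowers c ≤ centralizer (L : Set G) := by
      refine Critical.le_centralizer_of_le_centralizer_critical hDL ?_ ?_
        (zpowers_le.2 (centralizer_le_normalizer_core0 E hc)) ?_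
        (zpowers_le.2 (mem_centralizer_iff.2 fun x hx => (hcD x hx).symm))
      · rw [Subgroup.commutator_le]
        rintro x hx _ ⟨y, hy, rfl⟩
        have h : ⁅y, (⟨x, hx⟩ : L)⁆ ∈ C :=
          (hC.comm_le (commutator_mem_commutator hy (mem_top (⟨x, hx⟩ : L)))).1
        have h' := C.inv_mem h
        rw [commutatorElement_inv] at h'
        exact ⟨_, h', by simp [map_commutatorElement]⟩
      · rintro x ⟨hx, hxc⟩
        refine ⟨⟨x, hx⟩, hC.centralizer_le (mem_centralizer_iff.2 fun y hy => Subtype.ext ?_), rfl⟩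
        exact mem_centralizer_iff.1 hxc _ ⟨y, hy, rfl⟩
      · obtain ⟨k, hk⟩ := IsPGroup.iff_card.1 hLp
        rw [Nat.card_zpowers, hk]
        exact hcop.pow_right k
    exact key (mem_zpowers c)

/-- An element of `H` is a product of one fixed and one inverted element. -/
theorem exists_fixed_mul_inverted {H : Subgroup G} (hp2 : p ≠ 2) [Fact p.Prime]
    (hexp : ∀ h ∈ H, h ^ p = 1) {z : G} (hz : z * z = 1) (hzH : z ∈ normalizer (H : Set G))
    {h : G} (hh : h ∈ H) :
    ∃ c ∈ H, ∃ s ∈ H, z * c = c * z ∧ z * s * z⁻¹ = s⁻¹ ∧ h = c * s := by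
  obtain ⟨k, hk⟩ := ((Fact.out : p.Prime).odd_of_ne_two hp2)
  set d := h⁻¹ * (z * h * z⁻¹) with hd
  have hzz : z⁻¹ = z := inv_eq_of_mul_eq_one_right hz
  have hdH : d ∈ H := mul_mem (inv_mem hh) (LocalChar.conj_mem_of_mem_normalizer hzH hh)
  have hdinv : z * d * z⁻¹ = d⁻¹ := by
    have hz2 : ∀ x : G, z * (z * x) = x := fun x => by rw [← mul_assoc, hz, one_mul]
    rw [hd, hzz]
    simp only [mul_inv_rev, inv_inv, hzz, mul_assoc, hz2, hz, mul_one]
  set r := d ^ (k + 1) with hr
  have hr2 : r * r = d := by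
    rw [hr, ← pow_add, show k + 1 + (k + 1) = p + 1 from by omega, pow_succ, hexp d hdH, one_mul]
  have hrinv : z * r * z⁻¹ = r⁻¹ := by rw [hr, ← conj_pow, hdinv, inv_pow]
  refine ⟨h * r, mul_mem hh (pow_mem hdH _), r⁻¹, inv_mem (pow_mem hdH _), ?_, ?_, by group⟩
  · have h1 : z * (h * r) * z⁻¹ = h * r := by
      have h2 : z * h * z⁻¹ = h * d := by rw [hd]; group
      calc z * (h * r) * z⁻¹ = (z * h * z⁻¹) * (z * r * z⁻¹) := by group
        _ = h * (r * r) * r⁻¹ := by rw [h2, hrinv, hr2]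
        _ = h * r := by group
    calc z * (h * r) = z * (h * r) * z⁻¹ * z := by group
      _ = h * r * z := by rw [h1]
  · rw [← conj_inv, hrinv]

section Inverting

variable {E H : Subgroup G} {z : G}

/-- `z` inverts `H` modulo `E`. -/
theorem conj_mul_self_mem (hp2 : p ≠ 2) [Fact p.Prime] (hexp : ∀ h ∈ H, h ^ p = 1)
    (hz : z * z = 1) (hzH : z ∈ normalizer (H : Set G)) (hHE : H ≤ centralizer (E : Set G))
    (hfix : ∀ c ∈ H, z * c = c * z → c ∈ E) {h : G} (hh : h ∈ H) :
    z * h * z⁻¹ * h ∈ E := by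
  obtain ⟨c, hc, s, hs, hzc, hzs, rfl⟩ := exists_fixed_mul_inverted hp2 hexp hz hzH hh
  have hcE := hfix c hc hzc
  have hcs : c * s = s * c := mem_centralizer_iff.1 (hHE hs) c hcE
  have h1 : z * (c * s) * z⁻¹ = c * s⁻¹ := by
    calc z * (c * s) * z⁻¹ = (z * c) * z⁻¹ * (z * s * z⁻¹) := by group
      _ = c * z * z⁻¹ * s⁻¹ := by rw [hzc, hzs]
      _ = c * s⁻¹ := by group
  rw [h1, hcs]
  have : c * s⁻¹ * (s * c) = c * c := by group
  rw [this]
  exact mul_mem hcE hcE

/-- Commutators of `z` with elements of `C(E)` are `p`-elements. -/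
theorem eq_one_of_commutator [Finite G] (hp2 : p ≠ 2) [hp : Fact p.Prime]
    (hexp : ∀ h ∈ H, h ^ p = 1) (hHE : H ≤ centralizer (E : Set G))
    (hHn : centralizer (E : Set G) ≤ normalizer (H : Set G))
    (hfaith : ∀ c ∈ centralizer (E : Set G), (orderOf c).Coprime p →
      (∀ h ∈ H, c * h = h * c) → c = 1)
    (hE : IsElementaryAbelian p E) (hz : z * z = 1) (hzE : z ∈ centralizer (E : Set G))
    (hfix : ∀ c ∈ H, z * c = c * z → c ∈ E)
    {g : G} (hg : g ∈ centralizer (E : Set G)) (hcop : (orderOf ⁅g, z⁆).Coprime p) :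
    ⁅g, z⁆ = 1 := by
  set k := ⁅g, z⁆ with hk
  have hkE : k ∈ centralizer (E : Set G) := by
    rw [hk, commutatorElement_def]
    exact mul_mem (mul_mem (mul_mem hg hzE) (inv_mem hg)) (inv_mem hzE)
  have hcomE : ∀ x ∈ centralizer (E : Set G), ∀ e ∈ E, x * e * x⁻¹ = e := fun x hx e he => by
    rw [← mem_centralizer_iff.1 hx e he, mul_inv_cancel_right]
  have hinv : ∀ h ∈ H, ∃ e ∈ E, z * h * z⁻¹ = e * h⁻¹ := fun h hh =>
    ⟨_, conj_mul_self_mem hp2 hexp hz (hHn hzE) hHE hfix hh, by group⟩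
  have hmod : ∀ h ∈ H, k * h * k⁻¹ * h⁻¹ ∈ E := by
    intro h hh
    have hzz : z⁻¹ = z := inv_eq_of_mul_eq_one_right hz
    obtain ⟨e, he, h1⟩ := hinv h hh
    have hh1 : g⁻¹ * h⁻¹ * g ∈ H :=
      LocalChar.conj_mem_of_mem_normalizer' (hHn hg) (inv_mem hh)
    obtain ⟨e', he', h2⟩ := hinv _ hh1
    have h3 : g⁻¹ * (z⁻¹ * h * z) * g = e * (g⁻¹ * h⁻¹ * g) := by
      have : z⁻¹ * h * z = z * h * z⁻¹ := by rw [hzz]
      rw [this, h1]
      calc g⁻¹ * (e * h⁻¹) * g = (g⁻¹ * e * g⁻¹⁻¹) * (g⁻¹ * h⁻¹ * g) := by group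
        _ = e * (g⁻¹ * h⁻¹ * g) := by rw [hcomE g⁻¹ (inv_mem hg) e he]
    have h4 : k * h * k⁻¹ = e * e' * h := by
      rw [hk, commutatorElement_def]
      calc g * z * g⁻¹ * z⁻¹ * h * (g * z * g⁻¹ * z⁻¹)⁻¹
          = g * (z * (g⁻¹ * (z⁻¹ * h * z) * g) * z⁻¹) * g⁻¹ := by group
        _ = g * ((z * e * z⁻¹) * (z * (g⁻¹ * h⁻¹ * g) * z⁻¹)) * g⁻¹ := by rw [h3]; group
        _ = g * (e * (e' * (g⁻¹ * h⁻¹ * g)⁻¹)) * g⁻¹ := by rw [hcomE z hzE e he, h2]
        _ = (g * (e * e') * g⁻¹) * h := by group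
        _ = e * e' * h := by rw [hcomE g hg _ (mul_mem he he')]
    rw [h4, mul_inv_cancel_right]
    exact mul_mem he he'
  refine hfaith k hkE hcop fun h hh => ?_
  have hK : zpowers k ≤ centralizer (H : Set G) := by
    refine Coprime.le_centralizer_of_stabilizes (N := E) ?_
      (zpowers_le.2 hkE) ?_
    · rw [Subgroup.commutator_le]
      intro x hx y hy
      obtain ⟨i, rfl⟩ := mem_zpowers_iff.1 hy
      let S : Subgroup G :=
        { carrier := {y | y ∈ centralizer (E : Set G) ∧ ∀ x ∈ H, y * x * y⁻¹ * x⁻¹ ∈ E}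
          one_mem' := ⟨one_mem _, fun x _ => by simp⟩
          mul_mem' := fun {u v} hu hv => ⟨mul_mem hu.1 hv.1, fun x hx => by
            have hx' : v * x * v⁻¹ ∈ H := LocalChar.conj_mem_of_mem_normalizer (hHn hv.1) hx
            have := mul_mem (hu.2 _ hx') (hv.2 x hx)
            convert this using 1; group⟩
          inv_mem' := fun {u} hu => ⟨inv_mem hu.1, fun x hx => by
            have hx' : u⁻¹ * x * u ∈ H := LocalChar.conj_mem_of_mem_normalizer' (hHn hu.1) hx
            have := inv_mem (hu.2 _ hx')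
            convert this using 1; group⟩ }
      have hmem : k ^ i ∈ S := zpow_mem (show k ∈ S from ⟨hkE, hmod⟩) i
      have := inv_mem (hmem.2 x hx)
      convert this using 1
      rw [commutatorElement_def]; group
    · obtain ⟨j, hj⟩ := IsPGroup.iff_card.1 (isPGroup_of_pow hE.2)
      rw [Nat.card_zpowers, hj]
      exact hcop.pow_right j
  exact (mem_centralizer_iff.1 (hK (mem_zpowers k)) h hh).symm

end Inverting

end Cfsg.Agent.Lib.KlingerMason
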