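import Mathlib
import Cfsg.Agent.Lib.KlingerMason.Basic
import Cfsg.Agent.Lib.Coprime.Cocyclic

/-!
Klinger-Mason: an elementary abelian `p`-group of maximal rank acting faithfully on a 2-group.
-/

set_option autoImplicit false

namespace Cfsg.Agent.Lib.KlingerMason

open Subgroup
open scoped commutatorElement

variable {G : Type*} [Group G] {p m : ℕ}

/-- The standing hypotheses. -/
structure Ambient (p m : ℕ) (G : Type*) [Group G] : Prop where
  odd : p ≠ 2
  three_le : 3 ≤ m
  loc : IsOfLocalCharacteristic p G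
  bound : RankBound p m G

/-- `A` of rank `m` acts faithfully on the 2-group `Q`. -/
structure Acts (p m : ℕ) (A Q : Subgroup G) : Prop where
  elem : IsElementaryAbelian p A
  card : Nat.card A = p ^ m
  twoGroup : IsPGroup 2 Q
  normal : A ≤ normalizer (Q : Set G)
  faith : ∀ a ∈ A, (∀ x ∈ Q, a * x = x * a) → a = 1

/-- A subgroup of index `p` of `A`. -/
structure IsHyper (p m : ℕ) (A B : Subgroup G) : Prop where
  le : B ≤ A
  big : p ^ (m - 1) ≤ Nat.card B
  ne : B ≠ A

theorem zpowers_elem {n : ℕ} {x : G} (hx : x ^ n = 1) : IsElementaryAbelian n (zpowers x) := by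
  refine ⟨⟨⟨fun a b => Subtype.ext ?_⟩⟩, ?_⟩
  · obtain ⟨i, hi⟩ := mem_zpowers_iff.1 a.2
    obtain ⟨j, hj⟩ := mem_zpowers_iff.1 b.2
    show (a : G) * b = b * a
    rw [← hi, ← hj]
    exact ((Commute.refl x).zpow_zpow i j).eq
  · rintro _ ⟨i, rfl⟩
    show (x ^ i) ^ n = 1
    rw [← zpow_natCast, ← zpow_mul, mul_comm, zpow_mul, zpow_natCast, hx, one_zpow]

theorem sup_elem {n : ℕ} {U V : Subgroup G} (hU : IsElementaryAbelian n U)
    (hV : IsElementaryAbelian n V) (hUV : ∀ u ∈ U, ∀ v ∈ V, u * v = v * u) :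
    IsElementaryAbelian n (U ⊔ V) := by
  have hc : ∀ x ∈ ((U : Set G) ∪ V), ∀ y ∈ ((U : Set G) ∪ V), x * y = y * x := by
    rintro x (hx | hx) y (hy | hy)
    · exact congrArg Subtype.val (hU.1.is_comm.comm (⟨x, hx⟩ : U) ⟨y, hy⟩)
    · exact hUV x hx y hy
    · exact (hUV y hy x hx).symm
    · exact congrArg Subtype.val (hV.1.is_comm.comm (⟨x, hx⟩ : V) ⟨y, hy⟩)
  haveI hcomm : IsMulCommutative (closure ((U : Set G) ∪ V)) := Subgroup.isMulCommutative_closure hc
  rw [sup_eq_closure]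
  refine ⟨hcomm, fun x hx => ?_⟩
  induction hx using closure_induction with
  | mem y hy => exact hy.elim (hU.2 y) (hV.2 y)
  | one => exact one_pow _
  | mul y z hy hz ih1 ih2 =>
    have hyz : Commute y z := congrArg Subtype.val
      (hcomm.is_comm.comm (⟨y, hy⟩ : closure ((U : Set G) ∪ V)) ⟨z, hz⟩)
    rw [hyz.mul_pow, ih1, ih2, one_mul]
  | inv y _ ih => rw [inv_pow, ih, inv_one]

theorem card_mul_le_sup [Finite G] {U V : Subgroup G}
    (h : ∀ x ∈ U, x ∈ V → x = 1) : Nat.card U * Nat.card V ≤ Nat.card (U ⊔ V : Subgroup G) := by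
  rw [← Nat.card_prod]
  refine Nat.card_le_card_of_injective
    (fun x : U × V => (⟨(x.1 : G) * x.2, mul_mem (mem_sup_left x.1.2) (mem_sup_right x.2.2)⟩ :
      (U ⊔ V : Subgroup G))) ?_
  rintro ⟨a, b⟩ ⟨c, d⟩ hx
  have hx' : (a : G) * b = c * d := congrArg Subtype.val hx
  have hk : (c : G)⁻¹ * a = d * (b : G)⁻¹ := by
    rw [eq_mul_inv_iff_mul_eq, mul_assoc, hx', inv_mul_cancel_left]
  have h1 := h _ (mul_mem (inv_mem c.2) a.2) (hk ▸ mul_mem d.2 (inv_mem b.2))
  have hac : (a : G) = c := (inv_mul_eq_one.1 h1).symm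
  exact Prod.ext (Subtype.ext hac) (Subtype.ext (mul_left_cancel (hac ▸ hx')))

namespace IsHyper

variable [Finite G] [hp : Fact p.Prime] {A B B' Q : Subgroup G}

theorem card_eq (hA : Acts p m A Q) (hm : 1 ≤ m) (hB : IsHyper p m A B) :
    Nat.card B = p ^ (m - 1) := by
  obtain ⟨k, hkm, hk⟩ := (Nat.dvd_prime_pow hp.out).1 (hA.card ▸ card_dvd_of_le hB.le)
  have hne : k ≠ m := fun h => hB.ne (Subgroup.eq_of_le_of_card_ge hB.le (by rw [hk, h, hA.card]))
  have h1 : m - 1 ≤ k := (Nat.pow_le_pow_iff_right hp.out.one_lt).1 (hk ▸ hB.big)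
  rw [hk, show k = m - 1 by omega]

theorem sup_eq (hA : Acts p m A Q) (hm : 1 ≤ m) (hB : IsHyper p m A B) {X : Subgroup G}
    (hX : X ≤ A) (hXB : ¬ X ≤ B) : B ⊔ X = A := by
  refine Subgroup.eq_of_le_of_card_ge (sup_le hB.le hX) ?_
  obtain ⟨k, hkm, hk⟩ := (Nat.dvd_prime_pow hp.out).1 (hA.card ▸ card_dvd_of_le (sup_le hB.le hX))
  have hlt : Nat.card B < Nat.card (B ⊔ X : Subgroup G) :=
    lt_of_le_of_ne (Nat.le_of_dvd Nat.card_pos (card_dvd_of_le le_sup_left)) fun h =>
      hXB (le_sup_right.trans (Subgroup.eq_of_le_of_card_ge le_sup_left h.ge).ge)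
  rw [hB.card_eq hA hm, hk] at hlt
  have := (Nat.pow_lt_pow_iff_right hp.out.one_lt).1 hlt
  rw [hk, hA.card, show k = m by omega]

theorem not_le (hA : Acts p m A Q) (hm : 1 ≤ m) (hB : IsHyper p m A B) (hB' : IsHyper p m A B')
    (hne : B' ≠ B) : ¬ B' ≤ B := fun h =>
  hne (Subgroup.eq_of_le_of_card_ge h (by rw [hB.card_eq hA hm, hB'.card_eq hA hm]))

theorem exists_not_mem (hB : IsHyper p m A B) : ∃ a ∈ A, a ∉ B :=
  SetLike.not_le_iff_exists.1 fun h => hB.ne (le_antisymm hB.le h)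

theorem ne_bot (hA : Acts p m A Q) (hm : 2 ≤ m) (hB : IsHyper p m A B) : B ≠ ⊥ := by
  rintro rfl
  have := hB.card_eq hA (by omega)
  rw [Subgroup.card_bot] at this
  have := Nat.one_lt_pow (show m - 1 ≠ 0 by omega) hp.out.one_lt
  omega

theorem commutes_of_sup (hA : Acts p m A Q) (hm : 1 ≤ m) (hB : IsHyper p m A B) {X : Subgroup G}
    (hX : X ≤ A) (hXB : ¬ X ≤ B) {y : G} (h1 : y ∈ centralizer (B : Set G))
    (h2 : y ∈ centralizer (X : Set G)) : y ∈ centralizer (A : Set G) := by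
  have h : A ≤ centralizer ({y} : Set G) := by
    rw [← hB.sup_eq hA hm hX hXB, sup_le_iff]
    exact ⟨fun b hb => mem_centralizer_singleton_iff.2 (mem_centralizer_iff.1 h1 b hb),
      fun b hb => mem_centralizer_singleton_iff.2 (mem_centralizer_iff.1 h2 b hb)⟩
  exact mem_centralizer_iff.2 fun a ha => mem_centralizer_singleton_iff.1 (h ha)

theorem commutes_of_mem (hA : Acts p m A Q) (hm : 1 ≤ m) (hB : IsHyper p m A B) {a y : G}
    (ha : a ∈ A) (haB : a ∉ B) (h1 : y ∈ centralizer (B : Set G)) (h2 : a * y = y * a) :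
    y ∈ centralizer (A : Set G) := by
  refine hB.commutes_of_sup hA hm (zpowers_le.2 ha) (fun h => haB (zpowers_le.1 h)) h1
    (mem_centralizer_iff.2 ?_)
  rintro _ ⟨i, rfl⟩
  exact ((show Commute a y from h2).zpow_left i).eq

theorem card_inf (hA : Acts p m A Q) (hm : 2 ≤ m) (hB : IsHyper p m A B)
    (hB' : IsHyper p m A B') : p ^ (m - 2) ≤ Nat.card (B' ⊓ B : Subgroup G) := by
  have h1 : B'.relIndex B ≤ B'.relIndex A :=
    relIndex_le_of_le_right hB.le (Nat.card_pos (α := A ⧸ B'.subgroupOf A)).ne'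
  have h2 := PSolvable.card_mul_relIndex hB'.le
  have h3 := PSolvable.card_mul_relIndex (inf_le_right : B' ⊓ B ≤ B)
  rw [inf_relIndex_right, hB.card_eq hA (by omega)] at h3
  rw [hA.card, hB'.card_eq hA (by omega)] at h2
  have hp' : p ^ m = p ^ (m - 1) * p := by rw [← pow_succ]; congr 1; omega
  have h4 : B'.relIndex A = p := Nat.eq_of_mul_eq_mul_left (pow_pos hp.out.pos _) (h2.trans hp')
  have h5 : p ^ (m - 1) = p ^ (m - 2) * p := by rw [← pow_succ]; congr 1; omega
  refine Nat.le_of_mul_le_mul_right ?_ hp.out.pos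
  calc p ^ (m - 2) * p = Nat.card (B' ⊓ B : Subgroup G) * B'.relIndex B := by rw [h3, h5]
    _ ≤ _ := Nat.mul_le_mul_left _ (h1.trans h4.le)

end IsHyper

section

variable [Finite G] [hp : Fact p.Prime] {A Q : Subgroup G}

theorem exists_hyper (hA : Acts p m A Q) (hm : 1 ≤ m) {Y L : Subgroup G}
    (hY : A ≤ normalizer (Y : Set G)) (hYQ : Y ≤ Q) (hp2 : p ≠ 2)
    (hfix : Y ⊓ centralizer (A : Set G) ≤ L) (hne : ¬ Y ≤ L) :
    ∃ B, IsHyper p m A B ∧ ¬ Y ⊓ centralizer (B : Set G) ≤ L := by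
  by_contra hno
  push_neg at hno
  refine hne ?_
  haveI := hA.elem.1
  refine Coprime.le_of_cocyclic hY ?_ fun B hBA g hg hsup => ?_
  · obtain ⟨k, hk⟩ := IsPGroup.iff_card.1 (hA.twoGroup.to_le hYQ)
    rw [hA.card, hk]
    exact Nat.Coprime.pow _ _ ((Nat.coprime_primes hp.out Nat.prime_two).2 hp2)
  · rcases eq_or_ne B A with h | h
    · rw [h]; exact hfix
    · refine hno B ⟨hBA, ?_, h⟩
      have hgB : zpowers g ≤ normalizer (B : Set G) :=
        (zpowers_le.2 hg).trans ((le_centralizer_self hA.elem).trans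
          ((Subgroup.centralizer_le (SetLike.coe_subset_coe.2 hBA)).trans
            (centralizer_le_normalizer _)))
      have hcard : Nat.card A ≤ Nat.card (zpowers g) * Nat.card B := by
        rw [← hsup, sup_comm, ← Nat.card_prod]
        refine Nat.card_le_card_of_surjective
          (fun x : zpowers g × B => (⟨(x.1 : G) * x.2, mul_mem (mem_sup_left x.1.2)
            (mem_sup_right x.2.2)⟩ : (zpowers g ⊔ B : Subgroup G))) ?_
        rintro ⟨x, hx⟩
        have hx' : x ∈ ((zpowers g ⊔ B : Subgroup G) : Set G) := hx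
        rw [coe_mul_of_left_le_normalizer_right _ _ hgB] at hx'
        obtain ⟨u, hu, v, hv, rfl⟩ := hx'
        exact ⟨(⟨u, hu⟩, ⟨v, hv⟩), rfl⟩
      have hg' : Nat.card (zpowers g) ≤ p := by
        rw [Nat.card_zpowers]
        exact Nat.le_of_dvd hp.out.pos (orderOf_dvd_of_pow_eq_one (hA.elem.2 g hg))
      have h1 : p * p ^ (m - 1) ≤ p * Nat.card B := by
        rw [← pow_succ', show m - 1 + 1 = m by omega, ← hA.card]
        exact hcard.trans (Nat.mul_le_mul_right _ hg')
      exact Nat.le_of_mul_le_mul_left h1 hp.out.pos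

theorem two_bound (hamb : Ambient p m G) (hA : Acts p m A Q) {B U : Subgroup G} (hBA : B ≤ A)
    (hB : B ≠ ⊥) {e u : ℕ} (he : p ^ e ≤ Nat.card B) (hU : IsElementaryAbelian 2 U)
    (hu : 2 ^ u ≤ Nat.card U) (hu1 : 1 ≤ u) (hUB : U ≤ centralizer (B : Set G)) :
    e + u ≤ m + 1 := by
  haveI : Fact (Nat.Prime 2) := ⟨Nat.prime_two⟩
  obtain ⟨k, hk⟩ := IsPGroup.iff_card.1 (isPGroup_of_pow hU.2)
  have huk : u ≤ k := (Nat.pow_le_pow_iff_right one_lt_two).1 (hk ▸ hu)
  have hBe : IsElementaryAbelian p B := ⟨⟨⟨fun x y => Subtype.ext (by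
    have h := congrArg Subtype.val (hA.elem.1.is_comm.comm (⟨x, hBA x.2⟩ : A) ⟨y, hBA y.2⟩)
    simpa using h)⟩⟩, fun b hb => hA.elem.2 b (hBA hb)⟩
  have := rank_bound hamb.odd hamb.loc hamb.bound hBe hB he hU hk (by omega) hUB
  omega

theorem eq_one_of_pow_two_pow {x : G} {n : ℕ} (hp2 : p ≠ 2) (hx : x ^ p = 1)
    (h : x ^ 2 ^ n = 1) : x = 1 := by
  have hg : x ^ Nat.gcd p (2 ^ n) = 1 := pow_gcd_eq_one.2 ⟨hx, h⟩
  rwa [((Nat.coprime_primes hp.out Nat.prime_two).2 hp2).pow_right n, pow_one] at hg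

theorem eq_one_of_shift {a y d : G} (hap : a ^ p = 1) (h : a * y * a⁻¹ = d * y)
    (hd : a * d = d * a) (hp2 : p ≠ 2) {n : ℕ} (hdn : d ^ 2 ^ n = 1) : d = 1 := by
  refine eq_one_of_pow_two_pow hp2 ?_ hdn
  have hit : ∀ k : ℕ, a ^ k * y * (a ^ k)⁻¹ = d ^ k * y := by
    intro k
    induction k with
    | zero => simp
    | succ k ih =>
      calc a ^ (k + 1) * y * (a ^ (k + 1))⁻¹ = a * (a ^ k * y * (a ^ k)⁻¹) * a⁻¹ := by
            rw [pow_succ']; group
        _ = (a * d ^ k) * y * a⁻¹ := by rw [ih]; group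
        _ = d ^ k * (a * y * a⁻¹) := by
            rw [((show Commute a d from hd).pow_right k).eq]; group
        _ = d ^ (k + 1) * y := by rw [h, pow_succ, mul_assoc]
  have h1 := hit p
  rw [hap, one_mul, inv_one, mul_one] at h1
  exact (mul_eq_right.1 h1.symm)

/-- An elementary abelian 2-group centralised by a hyperplane and moved by `A` is a four group
without fixed points. -/
theorem four_facts (hamb : Ambient p m G) (hA : Acts p m A Q) {B W : Subgroup G}
    (hB : IsHyper p m A B) (hW : IsElementaryAbelian 2 W) (hWn : A ≤ normalizer (W : Set G))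
    (hWB : W ≤ centralizer (B : Set G)) (hmove : ¬ W ≤ centralizer (A : Set G)) :
    4 ≤ Nat.card W ∧ ∀ w ∈ W, w ∈ centralizer (A : Set G) → w = 1 := by
  classical
  have hm := hamb.three_le
  obtain ⟨a, ha, haB⟩ := hB.exists_not_mem
  obtain ⟨y, hy, hyA⟩ := SetLike.not_le_iff_exists.1 hmove
  have hay : a * y ≠ y * a := fun h => hyA (hB.commutes_of_mem hA (by omega) ha haB (hWB hy) h)
  set y1 := a * y * a⁻¹ with hy1
  have hy1W : y1 ∈ W := LocalChar.conj_mem_of_mem_normalizer (hWn ha) hy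
  have hne : y1 ≠ y := fun h => hay (by
    calc a * y = y1 * a := by rw [hy1]; group
      _ = y * a := by rw [h])
  have hy0 : y ≠ 1 := fun h => hay (by rw [h, mul_one, one_mul])
  have hy10 : y1 ≠ 1 := fun h => hy0 (by rw [hy1, conj_eq_one_iff] at h; exact h)
  obtain ⟨k, hk⟩ := (haveI : Fact (Nat.Prime 2) := ⟨Nat.prime_two⟩;
    IsPGroup.iff_card.1 (isPGroup_of_pow hW.2))
  have hfin : ∀ T : Finset G, (↑T ⊆ (W : Set G)) → T.card ≤ Nat.card W := by
    intro T hT
    rw [← Nat.card_eq_finsetCard T]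
    exact Nat.card_le_card_of_injective (fun x : T => (⟨x, hT x.2⟩ : W))
      fun u v h => Subtype.ext (by simpa using congrArg Subtype.val h)
  have h3 : 3 ≤ Nat.card W := by
    refine le_trans ?_ (hfin {1, y, y1} ?_)
    · simp [hy0.symm, hy10.symm, hne.symm]
    · intro x hx; simp at hx; rcases hx with rfl | rfl | rfl
      · exact one_mem W
      · exact hy
      · exact hy1W
  have hk2 : 2 ≤ k := by
    by_contra h
    have : 2 ^ k ≤ 2 ^ 1 := Nat.pow_le_pow_right two_pos (by omega)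
    omega
  have hle := two_bound hamb hA hB.le (hB.ne_bot hA (by omega)) hB.big hW hk.ge (by omega) hWB
  refine ⟨hk ▸ le_trans (show 4 ≤ 2 ^ 2 by norm_num) (Nat.pow_le_pow_right two_pos hk2),
    fun w hw hwA => ?_⟩
  by_contra hw1
  have haw : a * w = w * a := mem_centralizer_iff.1 hwA a ha
  have hyw : y * w = w * y := congrArg Subtype.val (hW.1.is_comm.comm (⟨y, hy⟩ : W) ⟨w, hw⟩)
  have hwy : w ≠ y := fun h => hay (h ▸ haw)
  have hwy1 : w ≠ y1 := fun h => hne (by
    have hz : a * y * a⁻¹ = a * w * a⁻¹ := by rw [← hy1, ← h, haw, mul_inv_cancel_right]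
    rw [← hy1, mul_left_inj, mul_right_inj] at hz
    rw [← h]; exact hz.symm)
  by_cases hcase : y1 = w * y
  · refine hw1 (eq_one_of_shift (hA.elem.2 a ha) hcase haw hamb.odd (n := 1) ?_)
    simpa using hW.2 w hw
  · have hwy0 : w * y ≠ 1 := fun h => hwy (by
      rw [mul_eq_one_iff_eq_inv] at h
      rw [h]; exact inv_eq_of_mul_eq_one_right (two_mul_self hW hy))
    have h5 : ({1, w, y, y1, w * y} : Finset G).card ≤ Nat.card W := hfin _ (by
      intro x hx; simp at hx; rcases hx with rfl | rfl | rfl | rfl | rfl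
      · exact one_mem W
      · exact hw
      · exact hy
      · exact hy1W
      · exact mul_mem hw hy)
    have h5' : ({1, w, y, y1, w * y} : Finset G).card = 5 := by
      rw [Finset.card_insert_of_notMem, Finset.card_insert_of_notMem,
        Finset.card_insert_of_notMem, Finset.card_insert_of_notMem, Finset.card_singleton] <;>
        simp [Ne.symm hw1, hy0.symm, hy10.symm, hwy0.symm, hwy, hwy1, hne.symm, hcase, hy0, hw1]
    have : 2 ^ k ≤ 2 ^ 2 := Nat.pow_le_pow_right two_pos (by omega)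
    omega

/-- Some involution of `Q` is central in `Q` and centralised by `A`. -/
theorem exists_central_fixed (hamb : Ambient p m G) (hA : Acts p m A Q) :
    ∃ z ∈ Q, z ≠ 1 ∧ z * z = 1 ∧ (∀ x ∈ Q, z * x = x * z) ∧ z ∈ centralizer (A : Set G) := by
  have hm := hamb.three_le
  haveI : Fact (Nat.Prime 2) := ⟨Nat.prime_two⟩
  have hQn : ∀ a ∈ A, ∀ x ∈ Q, a * x * a⁻¹ ∈ Q := fun a ha x hx =>
    LocalChar.conj_mem_of_mem_normalizer (hA.normal ha) hx
  -- involutions central in a centraliser inside `Q`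
  let Om : Subgroup G → Subgroup G := fun K =>
    { carrier := {x | x ∈ K ∧ x * x = 1 ∧ ∀ y ∈ K, x * y = y * x}
      one_mem' := ⟨one_mem _, one_mul _, fun y _ => by rw [one_mul, mul_one]⟩
      mul_mem' := fun {u v} hu hv => ⟨mul_mem hu.1 hv.1, by
          calc u * v * (u * v) = (u * u) * (v * v) := by
                have := hu.2.2 v hv.1
                calc u * v * (u * v) = u * (v * u) * v := by group
                  _ = u * (u * v) * v := by rw [this]
                  _ = (u * u) * (v * v) := by group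
            _ = 1 := by rw [hu.2.1, hv.2.1, one_mul],
        fun y hy => ((show Commute u y from hu.2.2 y hy).mul_left (hv.2.2 y hy)).eq⟩
      inv_mem' := fun {u} hu => ⟨inv_mem hu.1, by rw [← mul_inv_rev, hu.2.1, inv_one],
        fun y hy => ((show Commute u y from hu.2.2 y hy).inv_left).eq⟩ }
  have hOmE : ∀ K, IsElementaryAbelian 2 (Om K) := fun K =>
    ⟨⟨⟨fun x y => Subtype.ext (x.2.2.2 _ y.2.1)⟩⟩, fun x hx => by rw [pow_two]; exact hx.2.1⟩
  have hOmN : ∀ K : Subgroup G, A ≤ normalizer (K : Set G) → A ≤ normalizer (Om K : Set G) := by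
    intro K hK
    refine Subgroup.le_normalizer_iff.2 fun a ha x hx => ⟨?_, ?_, fun y hy => ?_⟩
    · exact LocalChar.conj_mem_of_mem_normalizer (hK ha) hx.1
    · calc a * x * a⁻¹ * (a * x * a⁻¹) = a * (x * x) * a⁻¹ := by group
        _ = 1 := by rw [hx.2.1]; group
    · have h' := hx.2.2 _ (LocalChar.conj_mem_of_mem_normalizer' (hK ha) hy)
      calc a * x * a⁻¹ * y = a * (x * (a⁻¹ * y * a)) * a⁻¹ := by group
        _ = a * ((a⁻¹ * y * a) * x) * a⁻¹ := by rw [h']
        _ = y * (a * x * a⁻¹) := by group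
  have hOmne : ∀ K : Subgroup G, K ≤ Q → K ≠ ⊥ → ∃ x, x ∈ Om K ∧ x ≠ 1 := by
    intro K hKQ hK
    haveI : Nontrivial K := (Subgroup.nontrivial_iff_ne_bot K).2 hK
    haveI := (hA.twoGroup.to_le hKQ).center_nontrivial
    obtain ⟨x, hx⟩ := exists_prime_orderOf_dvd_card' 2 (G := center K)
      ((((hA.twoGroup.to_le hKQ).to_subgroup _).card_eq_or_dvd).resolve_left
        (Finite.one_lt_card (α := center K)).ne')
    rw [← Subgroup.orderOf_coe, ← Subgroup.orderOf_coe] at hx
    refine ⟨((x : K) : G), ⟨(x : K).2, ?_, fun y hy => ?_⟩, fun h => ?_⟩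
    · rw [← pow_two, ← hx]; exact pow_orderOf_eq_one _
    · exact (congrArg Subtype.val (mem_center_iff.1 x.2 ⟨y, hy⟩)).symm
    · rw [h, orderOf_one] at hx; omega
  have hQne : Q ≠ ⊥ := by
    rintro rfl
    have h : A = ⊥ := eq_bot_iff.2 fun a ha => mem_bot.2 (hA.faith a ha fun x hx => by
      rw [mem_bot.1 hx, mul_one, one_mul])
    have := hA.card
    rw [h, Subgroup.card_bot] at this
    have := Nat.one_lt_pow (show m ≠ 0 by omega) hp.out.one_lt
    omega
  by_cases hfixed : Om Q ≤ centralizer (A : Set G)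
  · obtain ⟨z, hz, hz1⟩ := hOmne Q le_rfl hQne
    exact ⟨z, hz.1, hz1, hz.2.1, hz.2.2, hfixed hz⟩
  exfalso
  obtain ⟨B, hB, hBmove⟩ := exists_hyper hA (by omega) (hOmN Q hA.normal) (fun x hx => hx.1)
    hamb.odd inf_le_right hfixed
  set W := Om Q ⊓ centralizer (B : Set G) with hWdef
  have hWe : IsElementaryAbelian 2 W := ⟨⟨⟨fun x y => Subtype.ext (x.2.1.2.2 _ y.2.1.1)⟩⟩,
    fun x hx => (hOmE Q).2 x hx.1⟩
  have hnormC : ∀ {B : Subgroup G}, B ≤ A → A ≤ normalizer (centralizer (B : Set G) : Set G) := by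
    intro B hBA
    exact ((le_centralizer_self hA.elem).trans
      (Subgroup.centralizer_le (SetLike.coe_subset_coe.2 hBA))).trans le_normalizer
  obtain ⟨hW4, hWfix⟩ := four_facts hamb hA hB hWe
    (LocalChar.le_normalizer_inf_of_le (hOmN Q hA.normal) (hnormC hB.le)) inf_le_right hBmove
  -- a second hyperplane
  have hnotB : ¬ Q ≤ centralizer (B : Set G) := fun h => hB.ne_bot hA (by omega)
    (eq_bot_iff.2 fun b hb => mem_bot.2
      (hA.faith b (hB.le hb) fun x hx => mem_centralizer_iff.1 (h hx) b hb))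
  obtain ⟨B', hB', hB'move⟩ := exists_hyper hA (by omega) hA.normal le_rfl hamb.odd
    (inf_le_right.trans (Subgroup.centralizer_le (SetLike.coe_subset_coe.2 hB.le))) hnotB
  have hne : B' ≠ B := by rintro rfl; exact hB'move inf_le_right
  set K := Q ⊓ centralizer (B' : Set G) with hKdef
  have hKne : K ≠ ⊥ := fun h => hB'move (by rw [h]; exact bot_le)
  set V := Om K with hVdef
  obtain ⟨v, hv, hv1⟩ := hOmne K inf_le_left hKne
  have hWV : ∀ w ∈ W, ∀ x ∈ V, w * x = x * w := fun w hw x hx => hw.1.2.2 x hx.1.1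
  by_cases hVfix : V ≤ centralizer (A : Set G)
  · have hv' := hVfix hv
    have hUB : W ⊔ zpowers v ≤ centralizer (B : Set G) := sup_le inf_le_right
      (zpowers_le.2 (Subgroup.centralizer_le (SetLike.coe_subset_coe.2 hB.le) hv'))
    have hUe := sup_elem hWe (zpowers_elem (n := 2) (x := v) (by rw [pow_two]; exact hv.2.1))
      (fun w hw x hx => hWV w hw x (zpowers_le.2 hv hx))
    have hv2 : Nat.card (zpowers v) = 2 := by
      rw [Nat.card_zpowers]
      exact orderOf_eq_prime (by rw [pow_two]; exact hv.2.1) hv1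
    have hcard := card_mul_le_sup (U := W) (V := zpowers v) fun x hx hxv =>
      hWfix x hx (zpowers_le.2 hv' hxv)
    rw [hv2] at hcard
    have := two_bound hamb hA hB.le (hB.ne_bot hA (by omega)) hB.big hUe (u := 3)
      (by omega) (by omega) hUB
    omega
  · have hVB' : V ≤ centralizer (B' : Set G) := fun x hx => hx.1.2
    obtain ⟨hV4, -⟩ := four_facts hamb hA hB' (hOmE K)
      (hOmN K (LocalChar.le_normalizer_inf_of_le hA.normal (hnormC hB'.le))) hVB' hVfix
    have hUe := sup_elem hWe (hOmE K) hWV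
    have hEbig := hB'.card_inf hA (by omega) hB
    have hEne : (B ⊓ B' : Subgroup G) ≠ ⊥ := by
      intro h
      rw [h, Subgroup.card_bot] at hEbig
      have := Nat.one_lt_pow (show m - 2 ≠ 0 by omega) hp.out.one_lt
      omega
    have hUB : W ⊔ V ≤ centralizer ((B ⊓ B' : Subgroup G) : Set G) := sup_le
      (inf_le_right.trans (Subgroup.centralizer_le (SetLike.coe_subset_coe.2 inf_le_left)))
      (hVB'.trans (Subgroup.centralizer_le (SetLike.coe_subset_coe.2 inf_le_right)))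
    have hcard := card_mul_le_sup (U := W) (V := V) fun x hx hxv => hWfix x hx
      (hB.commutes_of_sup hA (by omega) hB'.le (hB.not_le hA (by omega) hB' hne) hx.2 (hVB' hxv))
    have h16 : 16 ≤ Nat.card W * Nat.card V := Nat.mul_le_mul hW4 hV4
    have := two_bound hamb hA (inf_le_left.trans hB.le) hEne hEbig hUe (u := 4)
      (le_trans (by norm_num) (h16.trans hcard)) (by omega) hUB
    omega

end

end Cfsg.Agent.Lib.KlingerMason
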