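import Mathlib
import Cfsg.Agent.Lib.KlingerMason.TwoSide

/-!
Klinger-Mason: the 2-group is of symplectic type and yields pairs of quaternion groups.
-/

set_option autoImplicit false

namespace Cfsg.Agent.Lib.KlingerMason

open Subgroup
open scoped commutatorElement

variable {G : Type*} [Group G] {p m : ℕ}

/-- `z` is a central involution of `Q` centralised by `A`. -/
structure Centred (A Q : Subgroup G) (z : G) : Prop where
  mem : z ∈ Q
  ne_one : z ≠ 1
  sq : z * z = 1
  central : ∀ x ∈ Q, z * x = x * z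
  fixed : z ∈ centralizer (A : Set G)

/-- `C` is a subgroup of `Q`, normalised by `A`, of class two with centre of exponent two. -/
structure Sympl (A Q C : Subgroup G) (z : G) : Prop where
  le : C ≤ Q
  normal : A ≤ normalizer (C : Set G)
  zmem : z ∈ C
  comm : ∀ x ∈ C, ∀ y ∈ C, y * x = x * y ∨ y * x = x * y * z
  sq_fixed : ∀ x ∈ C, x * x ∈ centralizer (A : Set G)
  faith : ∀ a ∈ A, (∀ x ∈ C, a * x = x * a) → a = 1

variable [Finite G] [hp : Fact p.Prime] {A Q C : Subgroup G} {z : G}

theorem unique_fixed (hamb : Ambient p m G) (hA : Acts p m A Q) (hz : Centred A Q z) {w : G}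
    (hw : w ∈ Q) (hw2 : w * w = 1) (hwA : w ∈ centralizer (A : Set G)) : w = 1 ∨ w = z := by
  by_contra h
  push_neg at h
  have hm := hamb.three_le
  have hU := sup_elem (zpowers_elem (n := 2) (x := z) (by rw [pow_two]; exact hz.sq))
    (zpowers_elem (n := 2) (x := w) (by rw [pow_two]; exact hw2))
    (fun u hu v hv => by
      obtain ⟨i, rfl⟩ := hu
      obtain ⟨j, rfl⟩ := hv
      exact ((show Commute z w from hz.central w hw).zpow_zpow i j).eq)
  have hz2 : Nat.card (zpowers z) = 2 := by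
    rw [Nat.card_zpowers]; exact orderOf_eq_prime (by rw [pow_two]; exact hz.sq) hz.ne_one
  have hw' : Nat.card (zpowers w) = 2 := by
    rw [Nat.card_zpowers]; exact orderOf_eq_prime (by rw [pow_two]; exact hw2) h.1
  have hcard := card_mul_le_sup (U := zpowers z) (V := zpowers w) fun x hx hx' => by
    by_contra hx1
    haveI : Fact (Nat.Prime 2) := ⟨Nat.prime_two⟩
    have e1 : zpowers x = zpowers z := Subgroup.eq_of_le_of_card_ge (zpowers_le.2 hx) (by
      rw [hz2, Nat.card_zpowers]
      exact Nat.one_lt_iff_ne_zero_and_ne_one.2 ⟨(orderOf_pos x).ne', fun h => hx1 (orderOf_eq_one_iff.1 h)⟩)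
    have e2 : zpowers x = zpowers w := Subgroup.eq_of_le_of_card_ge (zpowers_le.2 hx') (by
      rw [hw', Nat.card_zpowers]
      exact Nat.one_lt_iff_ne_zero_and_ne_one.2 ⟨(orderOf_pos x).ne', fun h => hx1 (orderOf_eq_one_iff.1 h)⟩)
    have hmem : w ∈ zpowers z := e1 ▸ e2.symm ▸ mem_zpowers w
    obtain ⟨i, hi⟩ := mem_zpowers_iff.1 hmem
    rcases Int.even_or_odd i with ⟨k, rfl⟩ | ⟨k, rfl⟩
    · rw [zpow_add, ← (Commute.refl z).mul_zpow, hz.sq, one_zpow] at hi
      exact h.1 hi.symm
    · rw [zpow_add_one, two_mul, zpow_add, ← (Commute.refl z).mul_zpow, hz.sq, one_zpow,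
        one_mul] at hi
      exact h.2 hi.symm
  rw [hz2, hw'] at hcard
  have hne : A ≠ ⊥ := fun hb => by
    have := hA.card
    rw [hb, Subgroup.card_bot] at this
    have := Nat.one_lt_pow (show m ≠ 0 by omega) hp.out.one_lt
    omega
  have := two_bound hamb hA le_rfl hne hA.card.ge hU (u := 2) (by omega) (by omega)
    (sup_le (zpowers_le.2 hz.fixed) (zpowers_le.2 hwA))
  omega

/-- An `A`-invariant elementary abelian subgroup of `Q` is centralised by `A`. -/
theorem elem_fixed (hamb : Ambient p m G) (hA : Acts p m A Q) (hz : Centred A Q z)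
    {Y : Subgroup G} (hYQ : Y ≤ Q) (hY : IsElementaryAbelian 2 Y)
    (hYn : A ≤ normalizer (Y : Set G)) : Y ≤ centralizer (A : Set G) := by
  have hm := hamb.three_le
  by_contra hne
  set Y' := Y ⊔ zpowers z with hY'
  have hY'e : IsElementaryAbelian 2 Y' :=
    sup_elem hY (zpowers_elem (by rw [pow_two]; exact hz.sq)) fun u hu v hv => by
      obtain ⟨i, rfl⟩ := hv
      exact (((show Commute z u from hz.central u (hYQ hu)).zpow_left i).symm).eq
  have hY'n : A ≤ normalizer (Y' : Set G) := by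
    refine LocalChar.le_normalizer_sup_of_le hYn fun a ha => ?_
    refine centralizer_le_normalizer _ (mem_centralizer_iff.2 fun x hx => ?_)
    obtain ⟨i, rfl⟩ := hx
    exact ((show Commute z a from (mem_centralizer_iff.1 hz.fixed a ha).symm).zpow_left i).eq
  have hY'Q : Y' ≤ Q := sup_le hYQ (zpowers_le.2 hz.mem)
  obtain ⟨B, hB, hmove⟩ := exists_hyper hA (by omega) hY'n hY'Q hamb.odd inf_le_right
    (fun h => hne (le_sup_left.trans h))
  have hWe : IsElementaryAbelian 2 (Y' ⊓ centralizer (B : Set G)) :=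
    ⟨⟨⟨fun x y => Subtype.ext (congrArg Subtype.val
      (hY'e.1.is_comm.comm (⟨x, x.2.1⟩ : Y') ⟨y, y.2.1⟩) :)⟩⟩, fun x hx => hY'e.2 x hx.1⟩
  have hnC : A ≤ normalizer (centralizer (B : Set G) : Set G) :=
    ((le_centralizer_self hA.elem).trans
      (Subgroup.centralizer_le (SetLike.coe_subset_coe.2 hB.le))).trans le_normalizer
  obtain ⟨-, hfix⟩ := four_facts hamb hA hB hWe (LocalChar.le_normalizer_inf_of_le hY'n hnC)
    inf_le_right hmove
  exact hz.ne_one (hfix z ⟨mem_sup_right (mem_zpowers z),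
    Subgroup.centralizer_le (SetLike.coe_subset_coe.2 hB.le) hz.fixed⟩ hz.fixed)

/-- An `A`-invariant abelian subgroup of `Q` is centralised by `A`. -/
theorem abelian_fixed (hamb : Ambient p m G) (hA : Acts p m A Q) (hz : Centred A Q z)
    {Y : Subgroup G} (hYQ : Y ≤ Q) (hYc : ∀ x ∈ Y, ∀ y ∈ Y, x * y = y * x)
    (hYn : A ≤ normalizer (Y : Set G)) : Y ≤ centralizer (A : Set G) := by
  let O : Subgroup G :=
    { carrier := {x | x ∈ Y ∧ x * x = 1}
      one_mem' := ⟨one_mem _, one_mul _⟩
      mul_mem' := fun {u v} hu hv => ⟨mul_mem hu.1 hv.1, by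
        rw [(show Commute v u from hYc v hv.1 u hu.1).mul_mul_mul_comm, hu.2, hv.2, one_mul]⟩
      inv_mem' := fun {u} hu => ⟨inv_mem hu.1, by rw [← mul_inv_rev, hu.2, inv_one]⟩ }
  have hO : O ≤ centralizer (A : Set G) := by
    refine elem_fixed hamb hA hz (fun x hx => hYQ hx.1) ⟨⟨⟨fun x y => Subtype.ext
      (hYc _ x.2.1 _ y.2.1)⟩⟩, fun x hx => by rw [pow_two]; exact hx.2⟩ ?_
    refine Subgroup.le_normalizer_iff.2 fun a ha x hx =>
      ⟨LocalChar.conj_mem_of_mem_normalizer (hYn ha) hx.1, ?_⟩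
    calc a * x * a⁻¹ * (a * x * a⁻¹) = a * (x * x) * a⁻¹ := by group
      _ = 1 := by rw [hx.2]; group
  have key : ∀ k : ℕ, ∀ y ∈ Y, y ^ 2 ^ k = 1 → y ∈ centralizer (A : Set G) := by
    intro k
    induction k with
    | zero => intro y _ h; rw [pow_zero, pow_one] at h; rw [h]; exact one_mem _
    | succ k ih =>
      intro y hy hpow
      rw [pow_succ', pow_mul] at hpow
      have hy2 := ih (y ^ 2) (pow_mem hy 2) hpow
      refine mem_centralizer_iff.2 fun a ha => ?_
      set d := a * y * a⁻¹ * y⁻¹ with hd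
      have hy1 : a * y * a⁻¹ ∈ Y := LocalChar.conj_mem_of_mem_normalizer (hYn ha) hy
      have hdY : d ∈ Y := mul_mem hy1 (inv_mem hy)
      have hd2 : d * d = 1 := by
        have h1 : (a * y * a⁻¹) ^ 2 = y ^ 2 := by
          rw [conj_pow, mem_centralizer_iff.1 hy2 a ha, mul_inv_cancel_right]
        rw [← pow_two, hd, (show Commute (a * y * a⁻¹) y⁻¹ from hYc _ hy1 _ (inv_mem hy)).mul_pow,
          h1, inv_pow, mul_inv_cancel]
      have hda : a * d = d * a := mem_centralizer_iff.1 (hO ⟨hdY, hd2⟩) a ha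
      have hd1 : d = 1 := eq_one_of_shift (hA.elem.2 a ha) (y := y) (by rw [hd]; group) hda hamb.odd
        (n := 1) (by rw [pow_one, pow_two]; exact hd2)
      calc a * y = d * (y * a) := by rw [hd]; group
        _ = y * a := by rw [hd1, one_mul]
  intro y hy
  obtain ⟨k, hk⟩ := hA.twoGroup ⟨y, hYQ hy⟩
  exact key k y hy (congrArg Subtype.val hk)

/-- The critical subgroup is of symplectic type. -/
theorem exists_sympl (hamb : Ambient p m G) (hA : Acts p m A Q) (hz : Centred A Q z) :
    ∃ C : Subgroup G, Sympl A Q C z ∧ normalizer (Q : Set G) ≤ normalizer (C : Set G) := by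
  haveI : Fact (Nat.Prime 2) := ⟨Nat.prime_two⟩
  obtain ⟨C0, hC⟩ := Critical.exists_critical (G := Q) hA.twoGroup
  haveI := hC.char
  set C : Subgroup G := C0.map Q.subtype with hCdef
  have hCQ : C ≤ Q := map_subtype_le _
  have hCn : normalizer (Q : Set G) ≤ normalizer (C : Set G) :=
    Coprime.normalizer_le_normalizer_map_of_characteristic C0
  have hzC : z ∈ C := by
    refine ⟨⟨z, hz.mem⟩, hC.centralizer_le (mem_centralizer_iff.2 fun y _ => Subtype.ext ?_), rfl⟩
    exact (hz.central y y.2).symm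
  have hcl : ∀ x ∈ C, ∀ y ∈ C, ((x * x) * y = y * (x * x)) ∧ ⁅x, y⁆ ∈ C ∧
      ∀ w ∈ C, ⁅x, y⁆ * w = w * ⁅x, y⁆ := by
    rintro _ ⟨x, hx, rfl⟩ _ ⟨y, hy, rfl⟩
    refine ⟨?_, ?_, ?_⟩
    · have h := mem_centralizer_iff.1 (hC.pow_mem x hx).2 y hy
      simpa [pow_two] using (congrArg (Q.subtype) h).symm
    · exact ⟨⁅x, y⁆, (hC.comm_le (commutator_mem_commutator hx (mem_top y))).1,
        by simp [map_commutatorElement]⟩
    · rintro _ ⟨w, hw, rfl⟩
      have h := mem_centralizer_iff.1 (hC.comm_le (commutator_mem_commutator hx (mem_top y))).2 w hw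
      simpa [map_commutatorElement, commutatorElement_def] using (congrArg (Q.subtype) h).symm
  set Z := C ⊓ centralizer (C : Set G) with hZdef
  have hZ : Z ≤ centralizer (A : Set G) :=
    abelian_fixed hamb hA hz (inf_le_left.trans hCQ)
      (fun x hx y hy => mem_centralizer_iff.1 hy.2 x hx.1)
      (LocalChar.le_normalizer_inf_of_le (hA.normal.trans hCn)
        (LocalChar.le_normalizer_centralizer_of_le (hA.normal.trans hCn)))
  refine ⟨C, ⟨hCQ, hA.normal.trans hCn, hzC, ?_, ?_, ?_⟩, hCn⟩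
  · intro x hx y hy
    obtain ⟨hsq, hcC, hcc⟩ := hcl y hy x hx
    set c := ⁅y, x⁆ with hc
    have hyx : y * x = c * (x * y) := by rw [hc, commutatorElement_def]; group
    have hc2 : c * c = 1 := by
      have hcy : c * y = y * c := hcc y hy
      have h1 : y * y * x = c * c * (x * (y * y)) := by
        calc y * y * x = y * (y * x) := mul_assoc _ _ _
          _ = (y * c) * (x * y) := by rw [hyx]; group
          _ = c * ((y * x) * y) := by rw [← hcy]; group
          _ = c * c * (x * (y * y)) := by rw [hyx]; group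
      rw [hsq] at h1
      exact mul_eq_right.1 h1.symm
    have hcxy : c * (x * y) = x * y * c := hcc _ (mul_mem hx hy)
    rcases unique_fixed hamb hA hz (hCQ hcC) hc2
      (hZ ⟨hcC, mem_centralizer_iff.2 fun w hw => (hcc w hw).symm⟩) with h | h
    · left; rw [hyx, h, one_mul]
    · right; rw [hyx, hcxy, h]
  · intro x hx
    exact hZ ⟨mul_mem hx hx, mem_centralizer_iff.2 fun w hw => (hcl x hx w hw).1.symm⟩
  · intro a ha hfix
    refine hA.faith a ha fun x hx => ?_
    have key : zpowers a ≤ centralizer (Q : Set G) := by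
      refine Critical.le_centralizer_of_le_centralizer_critical hCQ ?_ ?_
        ((zpowers_le.2 ha).trans hA.normal) ?_
        (zpowers_le.2 (mem_centralizer_iff.2 fun y hy => (hfix y hy).symm))
      · rw [Subgroup.commutator_le]
        rintro y hy _ ⟨w, hw, rfl⟩
        have h : ⁅w, (⟨y, hy⟩ : Q)⁆ ∈ C0 :=
          (hC.comm_le (commutator_mem_commutator hw (mem_top (⟨y, hy⟩ : Q)))).1
        have h' := C0.inv_mem h
        rw [commutatorElement_inv] at h'
        exact ⟨_, h', by simp [map_commutatorElement]⟩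
      · rintro y ⟨hy, hyc⟩
        exact ⟨⟨y, hy⟩, hC.centralizer_le (mem_centralizer_iff.2 fun w hw =>
          Subtype.ext (mem_centralizer_iff.1 hyc _ ⟨w, hw, rfl⟩)), rfl⟩
      · obtain ⟨k, hk⟩ := IsPGroup.iff_card.1 hA.twoGroup
        rw [hk, Nat.card_zpowers]
        exact (((Nat.coprime_primes hp.out Nat.prime_two).2 hamb.odd).coprime_dvd_left
          (orderOf_dvd_of_pow_eq_one (hA.elem.2 a ha))).pow_right k
    exact (mem_centralizer_iff.1 (key (mem_zpowers a)) x hx).symm

omit [Finite G] hp in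
theorem Sympl.sq_mul (hC : Sympl A Q C z) (hz : Centred A Q z) {x y : G} (hx : x ∈ C) (hy : y ∈ C) :
    x * y * (x * y) = x * x * (y * y) ∨ x * y * (x * y) = x * x * (y * y) * z := by
  rcases hC.comm x hx y hy with h | h
  · left
    calc x * y * (x * y) = x * (y * x) * y := by group
      _ = x * x * (y * y) := by rw [h]; group
  · right
    calc x * y * (x * y) = x * (y * x) * y := by group
      _ = x * x * y * (z * y) := by rw [h]; group
      _ = x * x * (y * y) * z := by rw [hz.central y (hC.le hy)]; group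

/-- A hyperplane whose centraliser in `C` is moved by `A`. -/
def IsKernel (p m : ℕ) (A C B : Subgroup G) : Prop :=
  IsHyper p m A B ∧ ¬ C ⊓ centralizer (B : Set G) ≤ centralizer (A : Set G)

theorem exists_kernel_not_le (hamb : Ambient p m G) (hA : Acts p m A Q) (hC : Sympl A Q C z)
    {X : Subgroup G} (hXA : X ≤ A) (hX : X ≠ ⊥) :
    ∃ B, IsKernel p m A C B ∧ ¬ X ≤ B := by
  have hm := hamb.three_le
  have hnot : ¬ C ≤ centralizer (X : Set G) := fun h => hX (eq_bot_iff.2 fun b hb => mem_bot.2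
    (hC.faith b (hXA hb) fun x hx => mem_centralizer_iff.1 (h hx) b hb))
  obtain ⟨B, hB, hmove⟩ := exists_hyper hA (by omega) hC.normal hC.le hamb.odd
    (inf_le_right.trans (Subgroup.centralizer_le (SetLike.coe_subset_coe.2 hXA))) hnot
  refine ⟨B, ⟨hB, fun h => hmove (h.trans (Subgroup.centralizer_le (SetLike.coe_subset_coe.2 hXA)))⟩,
    fun h => hmove ?_⟩
  exact inf_le_right.trans (Subgroup.centralizer_le (SetLike.coe_subset_coe.2 h))

theorem cross (hamb : Ambient p m G) (hA : Acts p m A Q) (hz : Centred A Q z)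
    (hC : Sympl A Q C z) {B B' : Subgroup G} (hB : IsHyper p m A B) (hB' : IsHyper p m A B')
    (hne : B' ≠ B) {u v a : G} (hu : u ∈ C) (huB : u ∈ centralizer (B : Set G)) (hv : v ∈ C)
    (hvB : v ∈ centralizer (B' : Set G)) (ha : a ∈ A) :
    u * (a * v * a⁻¹ * v⁻¹) = (a * v * a⁻¹ * v⁻¹) * u := by
  have hm := hamb.three_le
  have hnorm : B' ≤ normalizer (B : Set G) :=
    (hB'.le.trans (le_centralizer_self hA.elem)).trans
      ((Subgroup.centralizer_le (SetLike.coe_subset_coe.2 hB.le)).trans (centralizer_le_normalizer _))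
  have ha' : a ∈ ((B' ⊔ B : Subgroup G) : Set G) := by
    rw [sup_comm, hB.sup_eq hA (by omega) hB'.le (hB.not_le hA (by omega) hB' hne)]; exact ha
  rw [coe_mul_of_left_le_normalizer_right _ _ hnorm] at ha'
  obtain ⟨b', hb', b, hb, hbb⟩ := ha'
  have hab : a = b * b' := by
    rw [← hbb]
    exact (congrArg Subtype.val (hA.elem.1.is_comm.comm (⟨b', hB'.le hb'⟩ : A) ⟨b, hB.le hb⟩) :)
  set v' := a * v * a⁻¹ with hv'
  have hb'v : b' * v * b'⁻¹ = v := by rw [mem_centralizer_iff.1 hvB b' hb', mul_inv_cancel_right]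
  have hv'eq : v' = b * v * b⁻¹ := by
    rw [hv', hab]
    calc b * b' * v * (b * b')⁻¹ = b * (b' * v * b'⁻¹) * b⁻¹ := by group
      _ = b * v * b⁻¹ := by rw [hb'v]
  have hbu : b * u * b⁻¹ = u := by rw [mem_centralizer_iff.1 huB b hb, mul_inv_cancel_right]
  have hv'C : v' ∈ C := LocalChar.conj_mem_of_mem_normalizer (hC.normal ha) hv
  have hzA : b * z * b⁻¹ = z := by
    rw [mem_centralizer_iff.1 hz.fixed b (hB.le hb), mul_inv_cancel_right]
  rcases hC.comm u hu v hv with h | h
  · have h' : v' * u = u * v' := by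
      calc v' * u = b * v * b⁻¹ * (b * u * b⁻¹) := by rw [hv'eq, hbu]
        _ = b * (v * u) * b⁻¹ := by group
        _ = (b * u * b⁻¹) * (b * v * b⁻¹) := by rw [h]; group
        _ = u * v' := by rw [hv'eq, hbu]
    exact ((show Commute u v' from h'.symm).mul_right (show Commute u v from h.symm).inv_right).eq
  · have h' : v' * u = u * v' * z := by
      calc v' * u = b * v * b⁻¹ * (b * u * b⁻¹) := by rw [hv'eq, hbu]
        _ = b * (v * u) * b⁻¹ := by group
        _ = (b * u * b⁻¹) * (b * v * b⁻¹) * (b * z * b⁻¹) := by rw [h]; group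
        _ = u * v' * z := by rw [hv'eq, hbu, hzA]
    have hzu : z * u = u * z := hz.central u (hC.le hu)
    have hzv : Commute z v := hz.central v (hC.le hv)
    have h1 : v⁻¹ * u = u * z * v⁻¹ := by
      have : u * v⁻¹ = v⁻¹ * (u * z) := by
        calc u * v⁻¹ = v⁻¹ * (v * u) * v⁻¹ := by group
          _ = v⁻¹ * (u * (v * z) * v⁻¹) := by rw [h]; group
          _ = v⁻¹ * (u * z) := by rw [← hzv.eq]; group
      calc v⁻¹ * u = v⁻¹ * (u * z) * z⁻¹ := by group
        _ = u * (v⁻¹ * z⁻¹) := by rw [← this]; group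
        _ = u * (z⁻¹ * v⁻¹) := by rw [(hzv.inv_inv).symm.eq]
        _ = u * z * v⁻¹ := by rw [inv_eq_of_mul_eq_one_right hz.sq]; group
    symm
    calc v' * v⁻¹ * u = v' * (u * z * v⁻¹) := by rw [mul_assoc, h1]
      _ = v' * u * z * v⁻¹ := by group
      _ = u * v' * (z * z) * v⁻¹ := by rw [h']; group
      _ = u * (v' * v⁻¹) := by rw [hz.sq]; group

/-- Facts about a moved difference. -/
theorem diff_facts (hamb : Ambient p m G) (hA : Acts p m A Q) (hz : Centred A Q z)
    (hC : Sympl A Q C z) {a y : G} (ha : a ∈ A) (hy : y ∈ C) (hay : a * y ≠ y * a) :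
    a * y * a⁻¹ * y⁻¹ ∈ C ∧
      ((a * y * a⁻¹ * y⁻¹) * (a * y * a⁻¹ * y⁻¹) = 1 ∨
        (a * y * a⁻¹ * y⁻¹) * (a * y * a⁻¹ * y⁻¹) = z) ∧
      a * (a * y * a⁻¹ * y⁻¹) ≠ (a * y * a⁻¹ * y⁻¹) * a := by
  set y' := a * y * a⁻¹ with hy'
  have hy'C : y' ∈ C := LocalChar.conj_mem_of_mem_normalizer (hC.normal ha) hy
  have hd : y' * y⁻¹ ∈ C := mul_mem hy'C (inv_mem hy)
  refine ⟨hd, ?_, ?_⟩
  · have hsq : y' * y' = y * y := by
      have h := mem_centralizer_iff.1 (hC.sq_fixed y hy) a ha
      calc y' * y' = a * (y * y) * a⁻¹ := by rw [hy']; group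
        _ = y * y := by rw [h, mul_inv_cancel_right]
    have hone : y' * y' * (y⁻¹ * y⁻¹) = 1 := by rw [hsq]; group
    rcases hC.sq_mul hz hy'C (inv_mem hy) with h | h
    · left; rw [h, hone]
    · right; rw [h, hone, one_mul]
  · intro h
    obtain ⟨k, hk⟩ := hA.twoGroup ⟨y' * y⁻¹, hC.le hd⟩
    have hd1 := eq_one_of_shift (hA.elem.2 a ha) (y := y) (by rw [inv_mul_cancel_right]) h
      hamb.odd (n := k) (congrArg Subtype.val hk)
    refine hay ?_
    calc a * y = y' * y⁻¹ * (y * a) := by rw [hy']; group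
      _ = y * a := by rw [hd1, one_mul]

/-- The data of a quaternion group with an automorphism of order three. -/
structure Quat (z i j s : G) : Prop where
  ii : i * i = z
  jj : j * j = z
  ji : j * i = z * i * j
  si : s * i * s⁻¹ = j
  sj : s * j * s⁻¹ = i * j
  s3 : s ^ 3 = 1

theorem exists_quat (hamb : Ambient p m G) (hA : Acts p m A Q) (hz : Centred A Q z)
    (hC : Sympl A Q C z) (hp3 : p = 3) {B : Subgroup G} (hB : IsKernel p m A C B) {a : G}
    (ha : a ∈ A) (haB : a ∉ B) :
    ∃ i j s y, s ∈ A ∧ (s = a ∨ s = a * a) ∧ Quat z i j s ∧ y ∈ C ⊓ centralizer (B : Set G) ∧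
      i = a * y * a⁻¹ * y⁻¹ ∧ i ∈ C ⊓ centralizer (B : Set G) ∧
      j ∈ C ⊓ centralizer (B : Set G) := by
  have hm := hamb.three_le
  obtain ⟨y, hy, hyA⟩ := SetLike.not_le_iff_exists.1 hB.2
  have hay : a * y ≠ y * a := fun h =>
    hyA (hB.1.commutes_of_mem hA (by omega) ha haB hy.2 h)
  obtain ⟨hiC, hisq, himove⟩ := diff_facts hamb hA hz hC ha hy.1 hay
  have hnCB : A ≤ normalizer ((C ⊓ centralizer (B : Set G) : Subgroup G) : Set G) :=
    LocalChar.le_normalizer_inf_of_le hC.normal
      (((le_centralizer_self hA.elem).trans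
        (Subgroup.centralizer_le (SetLike.coe_subset_coe.2 hB.1.le))).trans le_normalizer)
  have hK : ∀ w ∈ C ⊓ centralizer (B : Set G), a * w * a⁻¹ ∈ C ⊓ centralizer (B : Set G) :=
    fun w hw => LocalChar.conj_mem_of_mem_normalizer (hnCB ha) hw
  set i := a * y * a⁻¹ * y⁻¹ with hi
  have hiK : i ∈ C ⊓ centralizer (B : Set G) := mul_mem (hK y hy) (inv_mem hy)
  set j := a * i * a⁻¹ with hj
  have hjK : j ∈ C ⊓ centralizer (B : Set G) := hK i hiK
  set k := a * j * a⁻¹ with hk
  have ha3 : a ^ 3 = 1 := hp3 ▸ hA.elem.2 a ha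
  have hzz : z⁻¹ = z := inv_eq_of_mul_eq_one_right hz.sq
  have haz : a * z * a⁻¹ = z := by rw [mem_centralizer_iff.1 hz.fixed a ha, mul_inv_cancel_right]
  have ha3' : a * a * a = 1 := by rw [← ha3, pow_succ, pow_succ, pow_one]
  have hconj3 : ∀ w : G, a * (a * (a * w * a⁻¹) * a⁻¹) * a⁻¹ = w := fun w => by
    calc a * (a * (a * w * a⁻¹) * a⁻¹) * a⁻¹ = (a * a * a) * w * (a * a * a)⁻¹ := by
          simp only [mul_inv_rev, mul_assoc]
      _ = w := by rw [ha3', one_mul, inv_one, mul_one]
  have hkji : k * j * i = 1 := by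
    calc k * j * i = a * (a * (a * y * a⁻¹) * a⁻¹) * a⁻¹ * y⁻¹ := by rw [hk, hj, hi]; group
      _ = 1 := by rw [hconj3, mul_inv_cancel]
  have hk' : k = i⁻¹ * j⁻¹ := by
    calc k = k * j * i * (i⁻¹ * j⁻¹) := by group
      _ = i⁻¹ * j⁻¹ := by rw [hkji, one_mul]
  have hakey : a * k * a⁻¹ = i := by
    rw [hk, hj]; exact hconj3 i
  rcases hC.comm i hiC j hjK.1 with hcomm | hcomm
  · exfalso
    have hij : Commute i j := hcomm.symm
    have hYc : ∀ x ∈ closure ({i, j} : Set G), ∀ w ∈ closure ({i, j} : Set G), x * w = w * x := by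
      haveI := Subgroup.isMulCommutative_closure (k := ({i, j} : Set G)) (by
        rintro x (rfl | rfl) w (rfl | rfl)
        · rfl
        · exact hij.eq
        · exact hij.eq.symm
        · rfl)
      intro x hx w hw
      exact congrArg Subtype.val (mul_comm' (⟨x, hx⟩ : closure ({i, j} : Set G)) ⟨w, hw⟩)
    have hi' : i ∈ closure ({i, j} : Set G) := subset_closure (Or.inl rfl)
    have hj' : j ∈ closure ({i, j} : Set G) := subset_closure (Or.inr rfl)
    have hfix := abelian_fixed hamb hA hz (Y := closure ({i, j} : Set G))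
      ((closure_le _).2 (by rintro x (rfl | rfl); exacts [hC.le hiC, hC.le hjK.1])) hYc ?_
    · exact himove (mem_centralizer_iff.1 (hfix hi') a ha)
    · rw [← hB.1.sup_eq hA (by omega) (zpowers_le.2 ha) (fun h => haB (zpowers_le.1 h)), sup_le_iff]
      refine ⟨fun b hb => centralizer_le_normalizer _ ?_, zpowers_le.2
        (LocalChar.mem_normalizer_of_conj_map_le ?_)⟩
      · have : closure ({i, j} : Set G) ≤ centralizer (B : Set G) := (closure_le _).2
          (by rintro x (rfl | rfl); exacts [hiK.2, hjK.2])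
        exact mem_centralizer_iff.2 fun x hx => (mem_centralizer_iff.1 (this hx) b hb).symm
      · rw [MonoidHom.map_closure, closure_le]
        rintro _ ⟨x, (rfl | rfl), rfl⟩
        · simpa using hj'
        · have : k ∈ closure ({i, j} : Set G) := hk' ▸ mul_mem (inv_mem hi') (inv_mem hj')
          simpa [← hk] using this
  · have hzi : z * i = i * z := hz.central i (hC.le hiC)
    have hzj : z * j = j * z := hz.central j (hC.le hjK.1)
    have hjsq : j * j = i * i := by
      calc j * j = a * (i * i) * a⁻¹ := by rw [hj]; group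
        _ = i * i := by rw [mem_centralizer_iff.1 (hC.sq_fixed i hiC) a ha, mul_inv_cancel_right]
    have hksq : k * k = i * i := by
      calc k * k = a * (j * j) * a⁻¹ := by rw [hk]; group
        _ = a * (i * i) * a⁻¹ := by rw [hjsq]
        _ = i * i := by rw [mem_centralizer_iff.1 (hC.sq_fixed i hiC) a ha, mul_inv_cancel_right]
    have hinvsq : (i * i)⁻¹ = i * i := by
      rcases hisq with h | h <;> rw [h]
      · rw [inv_one]
      · exact hzz
    have hji' : j * i = z * i * j := by
      calc j * i = i * j * z := hcomm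
        _ = i * (j * z) := mul_assoc _ _ _
        _ = (i * z) * j := by rw [← hzj]; group
        _ = z * i * j := by rw [← hzi]
    have hjisq : j * i * (j * i) = i * i := by
      have : k * k = (j * i * (j * i))⁻¹ := by rw [hk']; group
      rw [hksq] at this
      calc j * i * (j * i) = ((j * i * (j * i))⁻¹)⁻¹ := (inv_inv _).symm
        _ = i * i := by rw [← this, hinvsq]
    have hii : i * i = z := by
      have h1 : j * i * (j * i) = z * (i * i) * (i * i) := by
        calc j * i * (j * i) = j * (i * j) * i := by group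
          _ = j * (z * (j * i)) * i := by
            rw [hji', ← mul_assoc z, ← mul_assoc z, hz.sq, one_mul]
          _ = (j * z) * j * (i * i) := by group
          _ = z * (j * j) * (i * i) := by rw [← hzj]; group
          _ = z * (i * i) * (i * i) := by rw [hjsq]
      rw [hjisq] at h1
      rcases hisq with h | h
      · rw [h, mul_one, mul_one] at h1; exact absurd h1.symm hz.ne_one
      · exact h
    have hinvi : i⁻¹ = i * z := inv_eq_of_mul_eq_one_right (by rw [← mul_assoc, hii, hz.sq])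
    have hinvj : j⁻¹ = j * z := inv_eq_of_mul_eq_one_right (by
      rw [← mul_assoc, hjsq, hii, hz.sq])
    have hkij : k = i * j := by
      calc k = (i * z) * (j * z) := by rw [hk', hinvi, hinvj]
        _ = i * (z * j) * z := by group
        _ = i * j * (z * z) := by rw [hzj]; group
        _ = i * j := by rw [hz.sq, mul_one]
    exact ⟨i, j, a, y, ha, Or.inl rfl, ⟨hii, by rw [hjsq, hii], hji', rfl, by rw [← hkij], ha3⟩,
      hy, rfl, hiK, hjK⟩

end Cfsg.Agent.Lib.KlingerMason
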