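import Mathlib
import Cfsg.Agent.Lib.KlingerMason.Pairs

/-!
Klinger-Mason: the prime is three.
-/

set_option autoImplicit false

namespace Cfsg.Agent.Lib.KlingerMason

open Subgroup
open scoped commutatorElement

variable {G : Type*} [Group G] {p m : ℕ}

/-- The subgroup generated by `z` and the differences of `a` on `C_C(B)`. -/
def diffSub (C B : Subgroup G) (a z : G) : Subgroup G :=
  closure ({w | ∃ y ∈ C ⊓ centralizer (B : Set G), w = a * y * a⁻¹ * y⁻¹} ∪ {z})

variable [Finite G] [hp : Fact p.Prime] {A Q C : Subgroup G} {z : G}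

theorem diffSub_le (hA : Acts p m A Q) (hz : Centred A Q z) (hC : Sympl A Q C z) {B : Subgroup G}
    (hB : B ≤ A) {a : G} (ha : a ∈ A) : diffSub C B a z ≤ C ⊓ centralizer (B : Set G) := by
  have hn : A ≤ normalizer ((C ⊓ centralizer (B : Set G) : Subgroup G) : Set G) :=
    LocalChar.le_normalizer_inf_of_le hC.normal
      (((le_centralizer_self hA.elem).trans
        (Subgroup.centralizer_le (SetLike.coe_subset_coe.2 hB))).trans le_normalizer)
  rw [diffSub, closure_le]
  rintro w (⟨y, hy, rfl⟩ | rfl)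
  · exact mul_mem (LocalChar.conj_mem_of_mem_normalizer (hn ha) hy) (inv_mem hy)
  · exact ⟨hC.zmem, Subgroup.centralizer_le (SetLike.coe_subset_coe.2 hB) hz.fixed⟩

theorem diffSub_fixed (hamb : Ambient p m G) (hA : Acts p m A Q) (hz : Centred A Q z)
    (hC : Sympl A Q C z) {B : Subgroup G} (hB : B ≤ A) {a : G} (ha : a ∈ A) {w : G}
    (hw : w ∈ diffSub C B a z) (haw : a * w = w * a) : w ∈ zpowers z := by
  classical
  have hle := (diffSub_le hA hz hC hB ha).trans inf_le_left
  set Zs : Subgroup C := (zpowers z).subgroupOf C with hZs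
  have hzc : ∀ x : C, ∀ y ∈ Zs, x * y = y * x := fun x y hy => by
    obtain ⟨i, hi⟩ := mem_zpowers_iff.1 (mem_subgroupOf.1 hy)
    refine Subtype.ext ?_
    show (x : G) * y = y * x
    rw [← hi]
    exact (((show Commute z x from hz.central x (hC.le x.2)).zpow_left i).symm).eq
  haveI : Zs.Normal := ⟨fun n hn g => by rw [hzc g n hn, mul_inv_cancel_right]; exact hn⟩
  have hqc : ∀ x y : C ⧸ Zs, x * y = y * x := by
    intro x y
    induction x using QuotientGroup.induction_on with
    | _ x =>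
      induction y using QuotientGroup.induction_on with
      | _ y =>
        rw [← QuotientGroup.mk_mul, ← QuotientGroup.mk_mul, QuotientGroup.eq, mem_subgroupOf]
        rcases hC.comm x x.2 y y.2 with h | h
        · have : ((x * y)⁻¹ * (y * x) : C).val = 1 := by
            push_cast; rw [h, inv_mul_cancel]
          rw [this]; exact one_mem _
        · have : ((x * y)⁻¹ * (y * x) : C).val = z := by
            push_cast; rw [h]; group
          rw [this]; exact mem_zpowers z
  letI : CommGroup (C ⧸ Zs) := { (inferInstance : Group (C ⧸ Zs)) with mul_comm := hqc }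
  have hna : ∀ i : ℕ, ∀ x ∈ C, a ^ i * x * (a ^ i)⁻¹ ∈ C := fun i x hx =>
    LocalChar.conj_mem_of_mem_normalizer (hC.normal (pow_mem ha i)) hx
  let q : C →* C ⧸ Zs := QuotientGroup.mk' Zs
  let f : C →* C ⧸ Zs :=
    { toFun := fun x => ∏ i ∈ Finset.range p, q ⟨a ^ i * x * (a ^ i)⁻¹, hna i x x.2⟩
      map_one' := Finset.prod_eq_one fun i _ => by
        have : (⟨a ^ i * ((1 : C) : G) * (a ^ i)⁻¹, hna i _ (1 : C).2⟩ : C) = 1 :=
          Subtype.ext (by simp)
        rw [this, map_one]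
      map_mul' := fun x y => by
        rw [← Finset.prod_mul_distrib]
        refine Finset.prod_congr rfl fun i _ => ?_
        rw [← map_mul]
        exact congrArg q (Subtype.ext (by push_cast; group)) }
  have hker : diffSub C B a z ≤ f.ker.map C.subtype := by
    rw [diffSub, closure_le]
    rintro x (⟨y, hy, rfl⟩ | rfl)
    · refine ⟨⟨_, hle (subset_closure (Or.inl ⟨y, hy, rfl⟩))⟩, ?_, rfl⟩
      set g : ℕ → C ⧸ Zs := fun i => q ⟨a ^ i * y * (a ^ i)⁻¹, hna i y hy.1⟩ with hg
      show ∏ i ∈ Finset.range p, _ = (1 : C ⧸ Zs)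
      calc ∏ i ∈ Finset.range p, q ⟨a ^ i * (a * y * a⁻¹ * y⁻¹) * (a ^ i)⁻¹, _⟩
          = ∏ i ∈ Finset.range p, g (i + 1) / g i := by
            refine Finset.prod_congr rfl fun i _ => ?_
            rw [hg, ← map_div]
            refine congrArg q (Subtype.ext ?_)
            push_cast
            rw [pow_succ, div_eq_mul_inv]
            group
        _ = g p / g 0 := Finset.prod_range_div g p
        _ = 1 := by
            rw [div_eq_one]
            refine congrArg q (Subtype.ext ?_)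
            simp [hA.elem.2 a ha]
    · refine ⟨⟨x, hC.zmem⟩, ?_, rfl⟩
      show ∏ i ∈ Finset.range p, _ = (1 : C ⧸ Zs)
      refine Finset.prod_eq_one fun i _ => (QuotientGroup.eq_one_iff _).2 ?_
      rw [mem_subgroupOf]
      show a ^ i * x * (a ^ i)⁻¹ ∈ zpowers x
      rw [mem_centralizer_iff.1 hz.fixed _ (pow_mem ha i), mul_inv_cancel_right]
      exact mem_zpowers x
  obtain ⟨w', hw', hww⟩ := hker hw
  have hqp : q w' ^ p = 1 := by
    have h1 : f w' = q w' ^ p := by
      show ∏ i ∈ Finset.range p, _ = _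
      rw [Finset.prod_congr rfl (g := fun _ => q w') (fun i _ => congrArg q (Subtype.ext ?_)),
        Finset.prod_const, Finset.card_range]
      have h2 : Commute a (w' : G) := by rw [show (w' : G) = w from hww]; exact haw
      show a ^ i * w' * (a ^ i)⁻¹ = w'
      rw [(h2.pow_left i).eq, mul_inv_cancel_right]
    rw [← h1]; exact MonoidHom.mem_ker.1 hw'
  obtain ⟨n, hn⟩ := (hA.twoGroup.to_le hC.le) w'
  have h1 : q w' = 1 := eq_one_of_pow_two_pow hamb.odd hqp
    (n := n) (by rw [← map_pow, hn, map_one])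
  rw [← hww]
  exact mem_subgroupOf.1 ((QuotientGroup.eq_one_iff w').1 h1)

omit [Finite G] hp in
theorem zpowers_mem_iff (hz : Centred A Q z) {x : G} : x ∈ zpowers z ↔ x = 1 ∨ x = z := by
  refine ⟨fun h => ?_, fun h => ?_⟩
  · obtain ⟨i, rfl⟩ := mem_zpowers_iff.1 h
    rcases Int.even_or_odd i with ⟨k, rfl⟩ | ⟨k, rfl⟩
    · left; rw [zpow_add, ← (Commute.refl z).mul_zpow, hz.sq, one_zpow]
    · right; rw [zpow_add_one, two_mul, zpow_add, ← (Commute.refl z).mul_zpow, hz.sq, one_zpow, one_mul]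
  · rcases h with rfl | rfl
    · exact one_mem _
    · exact mem_zpowers _

theorem exists_commuting_pair (hamb : Ambient p m G) (hA : Acts p m A Q) (hz : Centred A Q z)
    (hC : Sympl A Q C z) (hp5 : 5 ≤ p) {B : Subgroup G} (hB : IsKernel p m A C B) {a : G}
    (ha : a ∈ A) (haB : a ∉ B) :
    ∃ u v, u ∈ diffSub C B a z ∧ v ∈ diffSub C B a z ∧ u * v = v * u ∧
      u ∉ zpowers z ∧ v ∉ zpowers z ⊔ zpowers u := by
  have hm := hamb.three_le
  obtain ⟨y, hy, hyA⟩ := SetLike.not_le_iff_exists.1 hB.2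
  have hay : a * y ≠ y * a := fun h =>
    hyA (hB.1.commutes_of_mem hA (by omega) ha haB hy.2 h)
  obtain ⟨hdC, hdsq, hdmove⟩ := diff_facts hamb hA hz hC ha hy.1 hay
  set d : ℕ → G := fun i => a ^ i * (a * y * a⁻¹ * y⁻¹) * (a ^ i)⁻¹ with hd
  have hn : A ≤ normalizer ((C ⊓ centralizer (B : Set G) : Subgroup G) : Set G) :=
    LocalChar.le_normalizer_inf_of_le hC.normal
      (((le_centralizer_self hA.elem).trans
        (Subgroup.centralizer_le (SetLike.coe_subset_coe.2 hB.1.le))).trans le_normalizer)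
  have hdS : ∀ i, d i ∈ diffSub C B a z := fun i => subset_closure (Or.inl
    ⟨a ^ i * y * (a ^ i)⁻¹, LocalChar.conj_mem_of_mem_normalizer (hn (pow_mem ha i)) hy, by
      rw [hd]; group⟩)
  have hdCm : ∀ i, d i ∈ C := fun i => (diffSub_le hA hz hC hB.1.le ha (hdS i)).1
  have hzQ : ∀ i : ℕ, Commute z (d i) := fun i => hz.central _ (hC.le (hdCm i))
  have hza : ∀ i : ℕ, a ^ i * z * (a ^ i)⁻¹ = z := fun i => by
    rw [mem_centralizer_iff.1 hz.fixed _ (pow_mem ha i), mul_inv_cancel_right]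
  have hdsq' : ∀ i, d i * d i ∈ zpowers z := by
    intro i
    have h1 : d i * d i = a ^ i * ((a * y * a⁻¹ * y⁻¹) * (a * y * a⁻¹ * y⁻¹)) * (a ^ i)⁻¹ := by
      rw [hd]; group
    rw [zpowers_mem_iff hz, h1]
    rcases hdsq with h | h <;> rw [h]
    · left; group
    · right; exact hza i
  -- the five conjugates are distinct modulo `z`
  have hdist : ∀ i k, i < k → k < 5 → ∀ e ∈ zpowers z, d k ≠ e * d i := by
    intro i k hik hk5 e he h
    obtain ⟨n, rfl⟩ : ∃ n, k = i + n := ⟨k - i, by omega⟩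
    have hein : ∀ x : G, x ∈ zpowers z → (a ^ i)⁻¹ * x * a ^ i = x := fun x hx => by
      obtain ⟨j, rfl⟩ := mem_zpowers_iff.1 hx
      have : Commute (a ^ i) z := mem_centralizer_iff.1 hz.fixed _ (pow_mem ha i)
      rw [mul_assoc, ((this.zpow_right j).symm).eq, inv_mul_cancel_left]
    have h1 : a ^ n * d 0 * (a ^ n)⁻¹ = e * d 0 := by
      calc a ^ n * d 0 * (a ^ n)⁻¹ = (a ^ i)⁻¹ * d (i + n) * a ^ i := by
            simp only [hd, pow_add, pow_zero, one_mul, inv_one, mul_one]; group
        _ = (a ^ i)⁻¹ * (e * d i) * a ^ i := by rw [h]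
        _ = ((a ^ i)⁻¹ * e * a ^ i) * d 0 := by
            simp only [hd, pow_zero, one_mul, inv_one, mul_one]; group
        _ = e * d 0 := by rw [hein e he]
    have he2 : e ^ 2 ^ 1 = 1 := by
      rcases (zpowers_mem_iff hz).1 he with rfl | rfl
      · exact one_pow _
      · rw [pow_one, pow_two]; exact hz.sq
    have hcom : a ^ n * e = e * a ^ n := mem_centralizer_iff.1
      ((zpowers_le.2 hz.fixed) he) _ (pow_mem ha n)
    have he1 := eq_one_of_shift (by rw [← pow_mul, mul_comm, pow_mul, hA.elem.2 a ha, one_pow]) h1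
      hcom hamb.odd he2
    rw [he1, one_mul] at h1
    have hcn : Commute (a ^ n) (d 0) := by
      show a ^ n * d 0 = d 0 * a ^ n
      calc a ^ n * d 0 = a ^ n * d 0 * (a ^ n)⁻¹ * a ^ n := by group
        _ = d 0 * a ^ n := by rw [h1]
    have hnp : n.Coprime (orderOf a) := by
      refine Nat.Coprime.coprime_dvd_right (orderOf_dvd_of_pow_eq_one (hA.elem.2 a ha)) ?_
      exact (hp.out.coprime_iff_not_dvd.2 fun h => by
        have := Nat.le_of_dvd (by omega) h; omega).symm
    obtain ⟨t, ht⟩ := exists_pow_eq_self_of_coprime hnp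
    have hfin := hcn.pow_left t
    rw [ht] at hfin
    refine hdmove ?_
    simpa [hd] using hfin.eq
  have hne1 : ∀ i, i < 5 → d i ∉ zpowers z := by
    intro i hi h
    have : d 0 ∈ zpowers z := by
      have h' : d 0 = (a ^ i)⁻¹ * d i * a ^ i := by
        simp only [hd, pow_zero, one_mul, inv_one, mul_one]; group
      obtain ⟨j, hj⟩ := mem_zpowers_iff.1 h
      have hcz : Commute (a ^ i) z := mem_centralizer_iff.1 hz.fixed _ (pow_mem ha i)
      rw [h', mem_zpowers_iff]
      exact ⟨j, by rw [← hj, mul_assoc, ((hcz.zpow_right j).symm).eq, inv_mul_cancel_left]⟩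
    have := mem_centralizer_iff.1 (zpowers_le.2 hz.fixed this) a ha
    exact hdmove (by simpa [hd] using this)
  have hsup : ∀ x, x ∈ zpowers z ⊔ zpowers (d 0) → x ∈ zpowers z ∨ ∃ e ∈ zpowers z, x = e * d 0 := by
    intro x hx
    have hzn : zpowers z ≤ normalizer (zpowers (d 0) : Set G) := zpowers_le.2
      (centralizer_le_normalizer _ (mem_centralizer_iff.2 fun w hw => by
        obtain ⟨j, rfl⟩ := hw
        exact ((hzQ 0).zpow_right j).symm.eq))
    have hx' : x ∈ ((zpowers z ⊔ zpowers (d 0) : Subgroup G) : Set G) := hx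
    rw [coe_mul_of_left_le_normalizer_right _ _ hzn] at hx'
    obtain ⟨e, he, w, hw, rfl⟩ := hx'
    obtain ⟨j, rfl⟩ := hw
    show e * (d 0) ^ j ∈ zpowers z ∨ _
    rcases Int.even_or_odd j with ⟨l, rfl⟩ | ⟨l, rfl⟩
    · left
      rw [zpow_add, ← (Commute.refl (d 0)).mul_zpow]
      exact mul_mem he (zpow_mem (hdsq' 0) l)
    · right
      refine ⟨e * (d 0 * d 0) ^ l, mul_mem he (zpow_mem (hdsq' 0) l), ?_⟩
      show e * (d 0) ^ (2 * l + 1) = _
      rw [zpow_add_one, two_mul, zpow_add, ← (Commute.refl (d 0)).mul_zpow]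
      exact (mul_assoc _ _ _).symm
  by_cases hcase : ∃ j, 1 ≤ j ∧ j < 5 ∧ d 0 * d j = d j * d 0
  · obtain ⟨j, hj1, hj5, hcj⟩ := hcase
    refine ⟨d 0, d j, hdS 0, hdS j, hcj, hne1 0 (by omega), fun h => ?_⟩
    rcases hsup _ h with h | ⟨e, he, h⟩
    · exact hne1 j hj5 h
    · exact hdist 0 j (by omega) hj5 e he h
  push_neg at hcase
  have hanti : ∀ j, 1 ≤ j → j < 5 → d j * d 0 = d 0 * d j * z := fun j h1 h5 =>
    (hC.comm _ (hdCm 0) _ (hdCm j)).resolve_left fun h => hcase j h1 h5 h.symm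
  have hcom2 : ∀ j, 1 ≤ j → j < 5 → d 0 * (d 1 * d j) = (d 1 * d j) * d 0 := by
    intro j h1 h5
    symm
    calc d 1 * d j * d 0 = d 1 * (d 0 * d j * z) := by rw [mul_assoc, hanti j h1 h5]
      _ = (d 1 * d 0) * (d j * z) := by group
      _ = d 0 * d 1 * (z * d j) * z := by rw [hanti 1 le_rfl (by omega)]; group
      _ = d 0 * (d 1 * d j) * (z * z) := by rw [(hzQ j).eq]; group
      _ = d 0 * (d 1 * d j) := by rw [hz.sq, mul_one]
  have hinv : ∀ i, ∃ e ∈ zpowers z, (d i)⁻¹ = e * d i := fun i =>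
    ⟨(d i * d i)⁻¹, inv_mem (hdsq' i), by group⟩
  have hnot : ∀ j, 2 ≤ j → j < 5 → d 1 * d j ∈ zpowers z → False := by
    intro j h2 h5 h
    obtain ⟨e, he, hinv'⟩ := hinv 1
    have h' : d j = ((d 1)⁻¹ * (d 1 * d j) * d 1) * (d 1)⁻¹ := by group
    have hc1 : (d 1)⁻¹ * (d 1 * d j) * d 1 = d 1 * d j := by
      obtain ⟨i, hi⟩ := mem_zpowers_iff.1 h
      rw [← hi, mul_assoc, ((hzQ 1).zpow_left i).eq, inv_mul_cancel_left]
    rw [hc1, hinv'] at h'
    exact hdist 1 j (by omega) h5 (d 1 * d j * e) (mul_mem h he) (by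
      calc d j = d 1 * d j * (e * d 1) := h'
        _ = d 1 * d j * e * d 1 := (mul_assoc _ _ _).symm)
  by_cases h2 : d 1 * d 2 ∈ zpowers z ⊔ zpowers (d 0)
  · refine ⟨d 0, d 1 * d 3, hdS 0, mul_mem (hdS 1) (hdS 3), hcom2 3 (by omega) (by omega),
      hne1 0 (by omega), fun h3 => ?_⟩
    rcases hsup _ h3 with h3 | ⟨e3, he3, h3⟩
    · exact hnot 3 (by omega) (by omega) h3
    rcases hsup _ h2 with h2 | ⟨e2, he2, h2⟩
    · exact hnot 2 le_rfl (by omega) h2
    refine hdist 2 3 (by omega) (by omega) (e3 * e2⁻¹) (mul_mem he3 (inv_mem he2)) ?_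
    have hcom' : Commute (d 1) (e3 * e2⁻¹) := by
      obtain ⟨i, hi⟩ := mem_zpowers_iff.1 (mul_mem he3 (inv_mem he2))
      rw [← hi]; exact ((hzQ 1).zpow_left i).symm
    calc d 3 = (d 1)⁻¹ * (d 1 * d 3) := by group
      _ = (d 1)⁻¹ * ((e3 * e2⁻¹) * (e2 * d 0)) := by rw [h3]; group
      _ = (d 1)⁻¹ * ((e3 * e2⁻¹) * d 1) * d 2 := by rw [← h2]; group
      _ = (e3 * e2⁻¹) * d 2 := by rw [← hcom'.eq]; group
  · exact ⟨d 0, d 1 * d 2, hdS 0, mul_mem (hdS 1) (hdS 2), hcom2 2 (by omega) (by omega),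
      hne1 0 (by omega), h2⟩

theorem prime_eq_three (hamb : Ambient p m G) (hA : Acts p m A Q) (hz : Centred A Q z)
    (hC : Sympl A Q C z) {B B' : Subgroup G} (hB : IsKernel p m A C B)
    (hB' : IsKernel p m A C B') (hne : B' ≠ B) : p = 3 := by
  classical
  by_contra hp3
  have hp5 : 5 ≤ p := by
    have h2 := hp.out.two_le
    have := hamb.odd
    by_contra h
    interval_cases p
    · exact hamb.odd rfl
    · exact hp3 rfl
    · exact (by norm_num : ¬ Nat.Prime 4) hp.out
  have hm := hamb.three_le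
  obtain ⟨a, ha, haB⟩ := hB.1.exists_not_mem
  obtain ⟨a', ha', haB'⟩ := hB'.1.exists_not_mem
  obtain ⟨u, v, hu, hv, huv, hu0, hv0⟩ := exists_commuting_pair hamb hA hz hC hp5 hB ha haB
  obtain ⟨u', v', hu', hv', huv', hu0', hv0'⟩ :=
    exists_commuting_pair hamb hA hz hC hp5 hB' ha' haB'
  have hK := diffSub_le hA hz hC hB.1.le ha
  have hK' := diffSub_le hA hz hC hB'.1.le ha'
  have hzc : ∀ x ∈ C, z * x = x * z := fun x hx => hz.central x (hC.le hx)
  have hcross : ∀ x ∈ diffSub C B a z, ∀ w ∈ diffSub C B' a' z, x * w = w * x := by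
    intro x hx
    have : diffSub C B' a' z ≤ centralizer ({x} : Set G) := by
      rw [diffSub, closure_le]
      rintro w (⟨y, hy, rfl⟩ | rfl)
      · exact mem_centralizer_singleton_iff.2
          (cross hamb hA hz hC hB.1 hB'.1 hne (hK hx).1 (hK hx).2 hy.1 hy.2 ha').symm
      · exact mem_centralizer_singleton_iff.2 (hzc x (hK hx).1)
    exact fun w hw => (mem_centralizer_singleton_iff.1 (this hw)).symm
  -- intersection of the two halves
  have hint : ∀ x ∈ diffSub C B a z, x ∈ diffSub C B' a' z → x ∈ zpowers z := fun x hx hx' =>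
    diffSub_fixed hamb hA hz hC hB.1.le ha hx (mem_centralizer_iff.1 (hB.1.commutes_of_sup hA
      (by omega) hB'.1.le (hB.1.not_le hA (by omega) hB'.1 hne) (hK hx).2 (hK' hx').2) a ha)
  set T : Set G := {z, u, v, u', v'} with hT
  have hTc : ∀ x ∈ T, ∀ y ∈ T, x * y = y * x := by
    have hzu := hzc u (hK hu).1
    have hzv := hzc v (hK hv).1
    have hzu' := hzc u' (hK' hu').1
    have hzv' := hzc v' (hK' hv').1
    have h1 := hcross u hu u' hu'
    have h2 := hcross u hu v' hv'
    have h3 := hcross v hv u' hu'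
    have h4 := hcross v hv v' hv'
    rintro x (rfl | rfl | rfl | rfl | rfl) y (rfl | rfl | rfl | rfl | rfl) <;>
      first | rfl | assumption | exact Eq.symm (by assumption)
  haveI hcomm := Subgroup.isMulCommutative_closure (k := T) hTc
  set W := closure T with hW
  have hTC : W ≤ C := (closure_le _).2 (by
    rintro x (rfl | rfl | rfl | rfl | rfl)
    exacts [hC.zmem, (hK hu).1, (hK hv).1, (hK' hu').1, (hK' hv').1])
  have hWc : ∀ x ∈ W, ∀ y ∈ W, x * y = y * x := fun x hx y hy =>
    congrArg Subtype.val (mul_comm' (⟨x, hx⟩ : W) ⟨y, hy⟩)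
  have hzW : z ∈ W := subset_closure (by simp [hT])
  have huW : u ∈ W := subset_closure (by simp [hT])
  have hvW : v ∈ W := subset_closure (by simp [hT])
  have hu'W : u' ∈ W := subset_closure (by simp [hT])
  have hv'W : v' ∈ W := subset_closure (by simp [hT])
  set P1 := zpowers z ⊔ zpowers u with hP1
  set P2 := P1 ⊔ zpowers v with hP2
  set P3 := P2 ⊔ zpowers u' with hP3
  set P4 := P3 ⊔ zpowers v' with hP4
  have hP1D : P1 ≤ diffSub C B a z :=
    sup_le (zpowers_le.2 (subset_closure (Or.inr rfl))) (zpowers_le.2 hu)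
  have hP2D : P2 ≤ diffSub C B a z := sup_le hP1D (zpowers_le.2 hv)
  have hP2W : P2 ≤ W := sup_le (sup_le (zpowers_le.2 hzW) (zpowers_le.2 huW)) (zpowers_le.2 hvW)
  have hP3W : P3 ≤ W := sup_le hP2W (zpowers_le.2 hu'W)
  have hu'2 : u' ∉ P2 := fun h => hu0' (hint u' (hP2D h) hu')
  have hv'3 : v' ∉ P3 := by
    intro h
    have hn : P2 ≤ normalizer (zpowers u' : Set G) := fun x hx =>
      centralizer_le_normalizer _ (mem_centralizer_iff.2 fun w hw => by
        exact hWc w (zpowers_le.2 hu'W hw) x (hP2W hx))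
    have h' : v' ∈ ((P2 ⊔ zpowers u' : Subgroup G) : Set G) := h
    rw [coe_mul_of_left_le_normalizer_right _ _ hn] at h'
    obtain ⟨x, hx, w, hw, hxw⟩ := h'
    have hx' : x ∈ diffSub C B' a' z := by
      rw [show x = v' * w⁻¹ by rw [← hxw]; group]
      exact mul_mem hv' (inv_mem (zpowers_le.2 hu' hw))
    exact hv0' (hxw ▸ mul_mem (mem_sup_left (hint x (hP2D hx) hx')) (mem_sup_right hw))
  haveI : Fact (Nat.Prime 2) := ⟨Nat.prime_two⟩
  have hWp : IsPGroup 2 W := hA.twoGroup.to_le (hTC.trans hC.le)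
  have hdouble : ∀ P R : Subgroup G, R ≤ W → P ≤ R → ∀ g ∈ R, g ∉ P → 2 * Nat.card P ≤ Nat.card R := by
    intro P R hR hPR g hg hgP
    obtain ⟨k, hk⟩ := card_dvd_of_le hPR
    have hk0 : k ≠ 0 := fun h0 => Nat.card_pos.ne' (h0 ▸ hk : Nat.card R = Nat.card P * 0)
    have hk1 : k ≠ 1 := fun h1 => hgP (by
      rw [Subgroup.eq_of_le_of_card_ge hPR (by rw [hk, h1, mul_one])]; exact hg)
    rw [hk, mul_comm]
    exact Nat.mul_le_mul_left _ (by omega)
  have hz2 : Nat.card (zpowers z) = 2 := by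
    rw [Nat.card_zpowers]; exact orderOf_eq_prime (by rw [pow_two]; exact hz.sq) hz.ne_one
  have c1 := hdouble _ P1 (le_sup_left.trans hP2W) le_sup_left u (mem_sup_right (mem_zpowers u)) hu0
  have c2 := hdouble _ P2 hP2W le_sup_left v (mem_sup_right (mem_zpowers v)) hv0
  have c3 := hdouble _ P3 hP3W le_sup_left u' (mem_sup_right (mem_zpowers u')) hu'2
  have c4 := hdouble _ P4 (sup_le hP3W (zpowers_le.2 hv'W)) le_sup_left v'
    (mem_sup_right (mem_zpowers v')) hv'3
  have c5 : Nat.card P4 ≤ Nat.card W :=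
    Nat.le_of_dvd Nat.card_pos (card_dvd_of_le (sup_le hP3W (zpowers_le.2 hv'W)))
  -- squaring has small image
  let sq : W →* W :=
    { toFun := fun x => x * x
      map_one' := mul_one _
      map_mul' := fun x y => (show Commute y x from Subtype.ext (hWc _ y.2 _ x.2)).mul_mul_mul_comm x y }
  have hrange : sq.range ≤ (zpowers z).subgroupOf W := by
    have hsqz : ∀ w ∈ W, w * w ∈ zpowers z := by
      intro w hw
      rw [zpowers_mem_iff hz]
      have hsqT : ∀ x ∈ T, x * x ∈ zpowers z := by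
        have hD : ∀ (B : Subgroup G) (a : G), IsKernel p m A C B → a ∈ A → a ∉ B →
            ∀ x ∈ diffSub C B a z, x * x ∈ zpowers z := by
          intro B a hB ha haB x hx
          induction hx using closure_induction with
          | mem w hw =>
            rcases hw with ⟨y, hy, rfl⟩ | rfl
            · by_cases hay : a * y = y * a
              · have : a * y * a⁻¹ * y⁻¹ = 1 := by rw [hay]; group
                rw [this, one_mul]; exact one_mem _
              · exact (zpowers_mem_iff hz).2 (diff_facts hamb hA hz hC ha hy.1 hay).2.1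
            · rw [hz.sq]; exact one_mem _
          | one => rw [one_mul]; exact one_mem _
          | mul b c hb hc ih1 ih2 =>
            have hbC := (diffSub_le hA hz hC hB.1.le ha hb).1
            have hcC := (diffSub_le hA hz hC hB.1.le ha hc).1
            rcases hC.sq_mul hz hbC hcC with h | h <;> rw [h]
            · exact mul_mem ih1 ih2
            · exact mul_mem (mul_mem ih1 ih2) (mem_zpowers z)
          | inv b _ ih => rw [← mul_inv_rev]; exact inv_mem ih
        rintro x (rfl | rfl | rfl | rfl | rfl)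
        · rw [hz.sq]; exact one_mem _
        · exact hD B a hB ha haB _ hu
        · exact hD B a hB ha haB _ hv
        · exact hD B' a' hB' ha' haB' _ hu'
        · exact hD B' a' hB' ha' haB' _ hv'
      rw [← zpowers_mem_iff hz]
      induction hw using closure_induction with
      | mem x hx => exact hsqT x hx
      | one => rw [one_mul]; exact one_mem _
      | mul b c hb hc ih1 ih2 =>
        rw [(show Commute c b from hWc c hc b hb).mul_mul_mul_comm]; exact mul_mem ih1 ih2
      | inv b _ ih => rw [← mul_inv_rev]; exact inv_mem ih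
    rintro _ ⟨x, rfl⟩
    exact mem_subgroupOf.2 (hsqz x x.2)
  have hker2 : Nat.card W ≤ Nat.card sq.ker * 2 := by
    rw [← Subgroup.card_mul_index sq.ker, Subgroup.index_ker]
    refine Nat.mul_le_mul_left _ (le_trans (Nat.le_of_dvd Nat.card_pos (card_dvd_of_le hrange)) ?_)
    rw [Nat.card_congr (Subgroup.subgroupOfEquivOfLe (zpowers_le.2 hzW)).toEquiv, hz2]
  set U := sq.ker.map W.subtype with hU
  have hUe : IsElementaryAbelian 2 U := by
    refine ⟨⟨⟨fun x y => Subtype.ext (hWc _ (map_subtype_le _ x.2) _ (map_subtype_le _ y.2))⟩⟩, ?_⟩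
    rintro _ ⟨x, hx, rfl⟩
    rw [pow_two]; exact congrArg Subtype.val (MonoidHom.mem_ker.1 hx)
  have hUc : Nat.card U = Nat.card sq.ker := Subgroup.card_map_of_injective W.subtype_injective
  have hEbig := hB'.1.card_inf hA (by omega) hB.1
  have hEne : (B ⊓ B' : Subgroup G) ≠ ⊥ := by
    intro h
    rw [h, Subgroup.card_bot] at hEbig
    have := Nat.one_lt_pow (show m - 2 ≠ 0 by omega) hp.out.one_lt
    omega
  have hUB : U ≤ centralizer ((B ⊓ B' : Subgroup G) : Set G) := (map_subtype_le _).trans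
    ((closure_le _).2 (by
      have h1 := Subgroup.centralizer_le (G := G) (SetLike.coe_subset_coe.2 (inf_le_left : B ⊓ B' ≤ B))
      have h2 := Subgroup.centralizer_le (G := G) (SetLike.coe_subset_coe.2 (inf_le_right : B ⊓ B' ≤ B'))
      rintro x (rfl | rfl | rfl | rfl | rfl)
      exacts [h1 (Subgroup.centralizer_le (SetLike.coe_subset_coe.2 hB.1.le) hz.fixed),
        h1 (hK hu).2, h1 (hK hv).2, h2 (hK' hu').2, h2 (hK' hv').2]))
  have := two_bound hamb hA (inf_le_left.trans hB.1.le) hEne hEbig hUe (u := 4)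
    (by omega) (by omega) hUB
  omega

end Cfsg.Agent.Lib.KlingerMason
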