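import Mathlib
import Cfsg.Agent.Lib.KlingerMason.FivePrime
import Cfsg.Prelude.Def_CaseTheorems

/-!
Klinger-Mason: pairs of quaternion groups in centralisers, and the commutator consequence.
-/

set_option autoImplicit false

namespace Cfsg.Agent.Lib.KlingerMason

open Subgroup
open scoped commutatorElement

variable {G : Type*} [Group G] {m : ℕ}

/-- `O₂` of the normaliser of `⟨u⟩`. -/
noncomputable def twoCore (u : G) : Subgroup G := pCoreOf 2 (normalizer (zpowers u : Set G))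

theorem mem_normalizer_zpowers {u g : G} (h : g * u = u * g) : g ∈ normalizer (zpowers u : Set G) :=
  centralizer_le_normalizer _ (mem_centralizer_iff.2 fun x hx => by
    obtain ⟨i, rfl⟩ := hx
    exact ((show Commute g u from h).zpow_right i).symm.eq)

theorem mem_zpowers_cases {u x : G} {n : ℕ} (hn : 0 < n) (hu : u ^ n = 1) (hx : x ∈ zpowers u) :
    ∃ k < n, x = u ^ k := by
  obtain ⟨i, rfl⟩ := mem_zpowers_iff.1 hx
  refine ⟨(i % n).toNat, ?_, ?_⟩
  · have := Int.emod_lt_of_pos i (show (0 : ℤ) < n by exact_mod_cast hn)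
    omega
  · conv_lhs => rw [← Int.emod_add_mul_ediv i n, zpow_add, zpow_mul, zpow_natCast, hu, one_zpow,
      mul_one]
    rw [← zpow_natCast, Int.toNat_of_nonneg (Int.emod_nonneg _ (by omega))]

theorem commute_of_mem_normalizer {u g : G} (hu : u * u = 1) (hg : g ∈ normalizer (zpowers u : Set G)) :
    g * u = u * g := by
  obtain ⟨k, hk, h⟩ := mem_zpowers_cases two_pos (by rw [pow_two]; exact hu)
    ((mem_normalizer_iff.1 hg u).1 (mem_zpowers u))
  interval_cases k
  · rw [pow_zero, conj_eq_one_iff] at h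
    subst h
    rw [mul_one, one_mul]
  · rw [pow_one] at h
    calc g * u = g * u * g⁻¹ * g := by group
      _ = u * g := by rw [h]

theorem mem_twoCore [Finite G] {u : G} (hu : u * u = 1) : u ∈ twoCore u := by
  refine CharP.le_pCoreOf le_normalizer ?_ le_rfl (mem_zpowers u)
  exact isPGroup_of_pow (zpowers_elem (n := 2) (by rw [pow_two]; exact hu)).2

theorem twoCore_isPGroup (u : G) : IsPGroup 2 (twoCore u) := CharP.pCoreOf_isPGroup _

theorem twoCore_central [Finite G] {u x : G} (hu : u * u = 1) (hx : x ∈ twoCore u) : u * x = x * u :=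
  (commute_of_mem_normalizer hu (CharP.pCoreOf_le _ hx)).symm

theorem mem_normalizer_twoCore {u g : G} (h : g * u = u * g) :
    g ∈ normalizer ((twoCore u : Subgroup G) : Set G) :=
  CharP.le_normalizer_pCoreOf _ (mem_normalizer_zpowers h)

theorem acts_twoCore [Finite G] {p : ℕ} [hp : Fact p.Prime] (hp2 : p ≠ 2)
    (hG2 : IsCharacteristicTwoType G) {A : Subgroup G}
    (hA : IsElementaryAbelian p A) (hcard : Nat.card A = p ^ m) {u : G} (hu : u * u = 1)
    (hu1 : u ≠ 1) (hAu : ∀ a ∈ A, a * u = u * a) :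
    Acts p m A (twoCore u) ∧ Centred A (twoCore u) u := by
  haveI : Fact (Nat.Prime 2) := ⟨Nat.prime_two⟩
  refine ⟨⟨hA, hcard, twoCore_isPGroup u, fun a ha => mem_normalizer_twoCore (hAu a ha), ?_⟩,
    ⟨mem_twoCore hu, hu1, hu, fun x hx => twoCore_central hu hx, mem_centralizer_iff.2 hAu⟩⟩
  intro a ha hfix
  refine CharP.eq_one_of_centralizes_pCoreOf
    (hG2.2 (zpowers u) (isPGroup_of_pow (zpowers_elem (by rw [pow_two]; exact hu)).2)
      (zpowers_ne_bot.2 hu1))
    (mem_normalizer_zpowers (hAu a ha)) ?_ (mem_centralizer_iff.2 fun x hx => (hfix x hx).symm)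
  exact ((Nat.coprime_primes hp.out Nat.prime_two).2 hp2).coprime_dvd_left
    (orderOf_dvd_of_pow_eq_one (hA.2 a ha))

/-- Two commuting quaternion groups in `O₂` of an involution centraliser, centralising `E`. -/
structure PairData (m : ℕ) (z : G) (E : Subgroup G) (i1 j1 s1 i2 j2 s2 : G) : Prop where
  zz : z * z = 1
  z1 : z ≠ 1
  elem : IsElementaryAbelian 3 E
  big : 3 ^ (m - 2) ≤ Nat.card E
  q1 : Quat z i1 j1 s1
  q2 : Quat z i2 j2 s2
  i1Q : i1 ∈ twoCore z
  j1Q : j1 ∈ twoCore z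
  i2Q : i2 ∈ twoCore z
  j2Q : j2 ∈ twoCore z
  ii : i2 * i1 = i1 * i2
  ij : i2 * j1 = j1 * i2
  ji : j2 * i1 = i1 * j2
  jj : j2 * j1 = j1 * j2
  is : i2 * s1 = s1 * i2
  js : j2 * s1 = s1 * j2
  si : s2 * i1 = i1 * s2
  sj : s2 * j1 = j1 * s2
  ss : s2 * s1 = s1 * s2
  zs1 : z * s1 = s1 * z
  zs2 : z * s2 = s2 * z
  zE : z ∈ centralizer (E : Set G)
  i1E : i1 ∈ centralizer (E : Set G)
  j1E : j1 ∈ centralizer (E : Set G)
  s1E : s1 ∈ centralizer (E : Set G)
  i2E : i2 ∈ centralizer (E : Set G)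
  j2E : j2 ∈ centralizer (E : Set G)
  s2E : s2 ∈ centralizer (E : Set G)

variable [Finite G]

theorem exists_pairData {p : ℕ} [hp : Fact p.Prime] (hamb : Ambient p m G) {A C : Subgroup G}
    {z : G} (hA : Acts p m A (twoCore z)) (hz : Centred A (twoCore z) z)
    (hC : Sympl A (twoCore z) C z) {B B' : Subgroup G} (hB : IsKernel p m A C B)
    (hB' : IsKernel p m A C B') (hne : B' ≠ B) :
    p = 3 ∧ ∃ i1 j1 s1 i2 j2 s2, PairData m z (B ⊓ B') i1 j1 s1 i2 j2 s2 := by
  have hp3 := prime_eq_three hamb hA hz hC hB hB' hne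
  refine ⟨hp3, ?_⟩
  have hm := hamb.three_le
  obtain ⟨a, haB', haB⟩ := SetLike.not_le_iff_exists.1 (hB.1.not_le hA (by omega) hB'.1 hne)
  obtain ⟨a', haB₂, haB'₂⟩ :=
    SetLike.not_le_iff_exists.1 (hB'.1.not_le hA (by omega) hB.1 (Ne.symm hne))
  have ha := hB'.1.le haB'
  have ha' := hB.1.le haB₂
  obtain ⟨i1, j1, s1, y1, hs1A, hs1, q1, hy1, hi1, hi1K, hj1K⟩ := exists_quat hamb hA hz hC hp3 hB ha haB
  obtain ⟨i2, j2, s2, y2, hs2A, hs2, q2, hy2, hi2, hi2K, hj2K⟩ :=
    exists_quat hamb hA hz hC hp3 hB' ha' haB'₂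
  have hs1B : s1 ∈ B' := by rcases hs1 with rfl | rfl; exacts [haB', mul_mem haB' haB']
  have hs2B : s2 ∈ B := by rcases hs2 with rfl | rfl; exacts [haB₂, mul_mem haB₂ haB₂]
  have hEA : ∀ x ∈ A, x ∈ centralizer ((B ⊓ B' : Subgroup G) : Set G) := fun x hx =>
    Subgroup.centralizer_le (SetLike.coe_subset_coe.2 (inf_le_left.trans hB.1.le))
      (le_centralizer_self hA.elem hx)
  have hE1 := Subgroup.centralizer_le (G := G)
    (SetLike.coe_subset_coe.2 (inf_le_left : B ⊓ B' ≤ B))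
  have hE2 := Subgroup.centralizer_le (G := G)
    (SetLike.coe_subset_coe.2 (inf_le_right : B ⊓ B' ≤ B'))
  have hs1i2 : s1 * i2 = i2 * s1 := mem_centralizer_iff.1 hi2K.2 s1 hs1B
  have hs1j2 : s1 * j2 = j2 * s1 := mem_centralizer_iff.1 hj2K.2 s1 hs1B
  have hs2i1 : s2 * i1 = i1 * s2 := mem_centralizer_iff.1 hi1K.2 s2 hs2B
  have hs2j1 : s2 * j1 = j1 * s2 := mem_centralizer_iff.1 hj1K.2 s2 hs2B
  have hii : Commute i1 i2 := by
    have := cross hamb hA hz hC hB.1 hB'.1 hne hi1K.1 hi1K.2 hy2.1 hy2.2 ha'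
    rw [← hi2] at this; exact this
  have conjc : ∀ {s u v u' v' : G}, Commute u v → s * u * s⁻¹ = u' → s * v * s⁻¹ = v' →
      Commute u' v' := fun {s u v u' v'} h h1 h2 => by
    subst h1; subst h2
    show s * u * s⁻¹ * (s * v * s⁻¹) = s * v * s⁻¹ * (s * u * s⁻¹)
    calc s * u * s⁻¹ * (s * v * s⁻¹) = s * (u * v) * s⁻¹ := by group
      _ = s * (v * u) * s⁻¹ := by rw [h.eq]
      _ = s * v * s⁻¹ * (s * u * s⁻¹) := by group
  have hij : Commute i1 j2 := conjc hii (by rw [hs2i1, mul_inv_cancel_right]) q2.si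
  have hji : Commute j1 i2 := conjc hii q1.si (by rw [hs1i2, mul_inv_cancel_right])
  have hjj : Commute j1 j2 := conjc hij q1.si (by rw [hs1j2, mul_inv_cancel_right])
  have hEel : IsElementaryAbelian p (B ⊓ B' : Subgroup G) :=
    ⟨⟨⟨fun x y => Subtype.ext (mem_centralizer_iff.1 (hEA y (hB.1.le y.2.1)) x x.2)⟩⟩,
      fun x hx => hA.elem.2 x (hB.1.le hx.1)⟩
  refine ⟨i1, j1, s1, i2, j2, s2, ⟨hz.sq, hz.ne_one, hp3 ▸ hEel,
    hp3 ▸ hB'.1.card_inf hA (by omega) hB.1, q1, q2, hC.le hi1K.1, hC.le hj1K.1, hC.le hi2K.1,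
    hC.le hj2K.1, hii.eq.symm, hji.eq.symm, hij.eq.symm, hjj.eq.symm, hs1i2.symm, hs1j2.symm,
    hs2i1, hs2j1, ?_, ?_, ?_, ?_, hE1 hi1K.2, hE1 hj1K.2, hEA s1 hs1A, hE2 hi2K.2, hE2 hj2K.2,
    hEA s2 hs2A⟩⟩
  · exact mem_centralizer_iff.1 (le_centralizer_self hA.elem hs1A) s2 hs2A
  · exact (mem_centralizer_iff.1 hz.fixed s1 hs1A).symm
  · exact (mem_centralizer_iff.1 hz.fixed s2 hs2A).symm
  · exact Subgroup.centralizer_le (SetLike.coe_subset_coe.2 (inf_le_left.trans hB.1.le)) hz.fixed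

namespace PairData

variable {z : G} {E : Subgroup G} {i1 j1 s1 i2 j2 s2 : G}

omit [Finite G] in
theorem ji_ne (d : PairData m z E i1 j1 s1 i2 j2 s2) : i1 * j1 ≠ j1 * i1 := fun h => d.z1 (by
  have h2 := d.q1.ji
  rw [← h, mul_assoc] at h2
  exact mul_eq_right.1 h2.symm)

theorem zc (d : PairData m z E i1 j1 s1 i2 j2 s2) {x : G} (hx : x ∈ twoCore z) : z * x = x * z :=
  twoCore_central d.zz hx

theorem prod_sq (d : PairData m z E i1 j1 s1 i2 j2 s2) :
    (i1 * i2) * (i1 * i2) = 1 ∧ (j1 * j2) * (j1 * j2) = 1 ∧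
      (i1 * i2) * (j1 * j2) = (j1 * j2) * (i1 * i2) := by
  refine ⟨?_, ?_, ?_⟩
  · rw [(show Commute i2 i1 from d.ii).mul_mul_mul_comm, d.q1.ii, d.q2.ii, d.zz]
  · rw [(show Commute j2 j1 from d.jj).mul_mul_mul_comm, d.q1.jj, d.q2.jj, d.zz]
  · symm
    calc j1 * j2 * (i1 * i2) = (j1 * i1) * (j2 * i2) := by
          rw [(show Commute j2 i1 from d.ji).mul_mul_mul_comm]
      _ = z * i1 * j1 * (z * i2 * j2) := by rw [d.q1.ji, d.q2.ji]
      _ = z * ((i1 * j1) * z) * (i2 * j2) := by group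
      _ = z * (z * (i1 * j1)) * (i2 * j2) := by rw [d.zc (mul_mem d.i1Q d.j1Q)]
      _ = i1 * j1 * (i2 * j2) := by rw [← mul_assoc z z, d.zz, one_mul]
      _ = i1 * i2 * (j1 * j2) := by
          rw [(show Commute j1 i2 from d.ij.symm).mul_mul_mul_comm]

theorem fours (d : PairData m z E i1 j1 s1 i2 j2 s2) :
    ∃ U : Subgroup G, IsElementaryAbelian 2 U ∧ 2 ^ 3 ≤ Nat.card U ∧ U ≤ twoCore z ∧
      U ≤ centralizer (E : Set G) := by
  obtain ⟨htt, hss, hts⟩ := d.prod_sq
  have hz2 := zpowers_elem (n := 2) (x := z) (by rw [pow_two]; exact d.zz)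
  have ht2 := zpowers_elem (n := 2) (x := i1 * i2) (by rw [pow_two]; exact htt)
  have hs2 := zpowers_elem (n := 2) (x := j1 * j2) (by rw [pow_two]; exact hss)
  have hcpow : ∀ {x y : G}, x * y = y * x → ∀ u ∈ zpowers x, ∀ v ∈ zpowers y, u * v = v * u := by
    intro x y h u hu v hv
    obtain ⟨i, rfl⟩ := hu
    obtain ⟨j, rfl⟩ := hv
    exact ((show Commute x y from h).zpow_zpow i j).eq
  have hzt : z * (i1 * i2) = (i1 * i2) * z := d.zc (mul_mem d.i1Q d.i2Q)
  have hzs : z * (j1 * j2) = (j1 * j2) * z := d.zc (mul_mem d.j1Q d.j2Q)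
  have hU1 := sup_elem hz2 ht2 (hcpow hzt)
  have hU1c : ∀ u ∈ zpowers z ⊔ zpowers (i1 * i2), u * (j1 * j2) = (j1 * j2) * u := by
    have : zpowers z ⊔ zpowers (i1 * i2) ≤ centralizer ({j1 * j2} : Set G) :=
      sup_le (zpowers_le.2 (mem_centralizer_singleton_iff.2 hzs))
        (zpowers_le.2 (mem_centralizer_singleton_iff.2 hts))
    exact fun u hu => mem_centralizer_singleton_iff.1 (this hu)
  refine ⟨_, sup_elem hU1 hs2 fun u hu v hv => ?_, ?_, ?_, ?_⟩
  · obtain ⟨j, rfl⟩ := hv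
    exact ((show Commute u (j1 * j2) from hU1c u hu).zpow_right j).eq
  · have hne_t : i1 * i2 ∉ zpowers z := by
      intro h
      have hc : Commute (i1 * i2) j1 := by
        obtain ⟨k, hk⟩ := mem_zpowers_iff.1 h
        rw [← hk]; exact (show Commute z j1 from d.zc d.j1Q).zpow_left k
      refine d.ji_ne ?_
      calc i1 * j1 = (i1 * i2 * j1) * i2⁻¹ := by
            rw [mul_assoc i1 i2, d.ij]; group
        _ = (j1 * (i1 * i2)) * i2⁻¹ := by rw [hc.eq]
        _ = j1 * i1 := by group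
    have hne_s : j1 * j2 ∉ zpowers z ⊔ zpowers (i1 * i2) := by
      intro h
      have hc : ∀ u ∈ zpowers z ⊔ zpowers (i1 * i2), u * i1 = i1 * u := by
        have : zpowers z ⊔ zpowers (i1 * i2) ≤ centralizer ({i1} : Set G) :=
          sup_le (zpowers_le.2 (mem_centralizer_singleton_iff.2 (d.zc d.i1Q)))
            (zpowers_le.2 (mem_centralizer_singleton_iff.2 (by rw [mul_assoc, d.ii])))
        exact fun u hu => mem_centralizer_singleton_iff.1 (this hu)
      refine d.ji_ne ?_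
      calc i1 * j1 = i1 * (j1 * j2) * j2⁻¹ := by group
        _ = (j1 * j2) * i1 * j2⁻¹ := by rw [← hc _ h]
        _ = j1 * i1 := by rw [mul_assoc j1, d.ji]; group
    have two : ∀ x : G, x * x = 1 → x ≠ 1 → Nat.card (zpowers x) = 2 := fun x hx hx1 => by
      rw [Nat.card_zpowers]; exact orderOf_eq_prime (by rw [pow_two]; exact hx) hx1
    have c1 := card_mul_le_sup (U := zpowers z) (V := zpowers (i1 * i2)) fun x hx hx' => by
      obtain ⟨k, hk, rfl⟩ := mem_zpowers_cases two_pos (by rw [pow_two]; exact htt) hx'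
      interval_cases k
      · exact pow_zero _
      · exact absurd (by rwa [pow_one] at hx) hne_t
    have c2 := card_mul_le_sup (U := zpowers z ⊔ zpowers (i1 * i2)) (V := zpowers (j1 * j2))
      fun x hx hx' => by
      obtain ⟨k, hk, rfl⟩ := mem_zpowers_cases two_pos (by rw [pow_two]; exact hss) hx'
      interval_cases k
      · exact pow_zero _
      · exact absurd (by rwa [pow_one] at hx) hne_s
    rw [two z d.zz d.z1, two _ htt (fun h => hne_t (h ▸ one_mem _))] at c1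
    rw [two _ hss (fun h => hne_s (h ▸ one_mem _))] at c2
    omega
  · exact sup_le (sup_le (zpowers_le.2 (mem_twoCore d.zz)) (zpowers_le.2 (mul_mem d.i1Q d.i2Q)))
      (zpowers_le.2 (mul_mem d.j1Q d.j2Q))
  · exact sup_le (sup_le (zpowers_le.2 d.zE) (zpowers_le.2 (mul_mem d.i1E d.i2E)))
      (zpowers_le.2 (mul_mem d.j1E d.j2E))

end PairData

/-- Elements of `core0 p E` fixed by an involution commute with `C(E) ∩ O₂(C(u))`. -/
theorem commute_core0_twoCore {p : ℕ} [hp : Fact p.Prime] (hp2 : p ≠ 2) {E : Subgroup G} {u c x : G}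
    (hc : c ∈ core0 p E) (hcu : c * u = u * c) (hx : x ∈ twoCore u)
    (hxE : x ∈ centralizer (E : Set G)) : x * c = c * x := by
  have h1 : x * c * x⁻¹ * c⁻¹ ∈ twoCore u := by
    have : c * x⁻¹ * c⁻¹ ∈ twoCore u :=
      LocalChar.conj_mem_of_mem_normalizer (mem_normalizer_twoCore hcu) (inv_mem hx)
    have := mul_mem hx this
    convert this using 1; group
  have h2 : x * c * x⁻¹ * c⁻¹ ∈ core0 p E :=
    mul_mem (LocalChar.conj_mem_of_mem_normalizer (centralizer_le_normalizer_core0 E hxE) hc)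
      (inv_mem hc)
  obtain ⟨k, hk⟩ := twoCore_isPGroup u ⟨_, h1⟩
  have hk' : (x * c * x⁻¹ * c⁻¹) ^ 2 ^ k = 1 := congrArg Subtype.val hk
  have hcop : (orderOf (x * c * x⁻¹ * c⁻¹)).Coprime p :=
    (((Nat.coprime_primes Nat.prime_two hp.out).2 hp2.symm).pow_left k).coprime_dvd_left
      (orderOf_dvd_of_pow_eq_one hk')
  have h3 := CharP.eq_one_of_mem_of_coprime (core0_isPGroup E) h2 hcop
  calc x * c = x * c * x⁻¹ * c⁻¹ * (c * x) := by group
    _ = c * x := by rw [h3, one_mul]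

/-- In the presence of a pair, the fixed points of `z` on the exponent-three subgroup lie in `E`. -/
theorem PairData.fix_mem (hamb : Ambient 3 m G) {z : G} {E : Subgroup G}
    {i1 j1 s1 i2 j2 s2 : G} (d : PairData m z E i1 j1 s1 i2 j2 s2) {c : G} (hc : c ∈ core0 3 E)
    (hc3 : c ^ 3 = 1) (hcz : z * c = c * z) : c ∈ E := by
  by_contra hcE
  haveI : Fact (Nat.Prime 3) := ⟨Nat.prime_three⟩
  have hm := hamb.three_le
  obtain ⟨U, hU, hU8, hUQ, hUE⟩ := d.fours
  have hE' := sup_elem d.elem (zpowers_elem hc3) fun u hu v hv => by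
    obtain ⟨j, rfl⟩ := hv
    exact ((show Commute u c from mem_centralizer_iff.1 (core0_le_centralizer E hc) u hu).zpow_right j).eq
  have hne : (E ⊔ zpowers c : Subgroup G) ≠ ⊥ := fun h => hcE (by
    have : c ∈ E ⊔ zpowers c := mem_sup_right (mem_zpowers c)
    rw [h, mem_bot] at this
    rw [this]; exact one_mem E)
  have hc3' : Nat.card (zpowers c) = 3 := by
    rw [Nat.card_zpowers]; exact orderOf_eq_prime hc3 fun h => hcE (h ▸ one_mem E)
  have hcard := card_mul_le_sup (U := E) (V := zpowers c) fun x hx hx' => by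
    obtain ⟨k, hk, rfl⟩ := mem_zpowers_cases (by norm_num : 0 < 3) hc3 hx'
    interval_cases k
    · exact pow_zero _
    · exact absurd (by rwa [pow_one] at hx) hcE
    · exfalso; apply hcE
      have := pow_mem hx 2
      rwa [← pow_mul, show 2 * 2 = 3 + 1 by rfl, pow_add, hc3, one_mul, pow_one] at this
  rw [hc3'] at hcard
  have hbig : 3 ^ (m - 1) ≤ Nat.card (E ⊔ zpowers c : Subgroup G) :=
    le_trans (by rw [show m - 1 = m - 2 + 1 by omega, pow_succ]; exact Nat.mul_le_mul_right _ d.big)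
      hcard
  obtain ⟨u, hu⟩ := (haveI : Fact (Nat.Prime 2) := ⟨Nat.prime_two⟩;
    IsPGroup.iff_card.1 (isPGroup_of_pow hU.2))
  have hu3 : 3 ≤ u := (Nat.pow_le_pow_iff_right one_lt_two).1 (hu ▸ hU8)
  have := rank_bound hamb.odd hamb.loc hamb.bound hE' hne hbig hU hu (by omega)
    (le_centralizer_iff.1 (sup_le (le_centralizer_iff.1 hUE) (zpowers_le.2
      (mem_centralizer_iff.2 fun v hv =>
        commute_core0_twoCore hamb.odd hc hcz.symm (hUQ hv) (hUE hv)))))
  omega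

/-- With a pair for `(z, E)`, the commutators of `z` with `C(E)` of order prime to `3` are trivial. -/
theorem PairData.commutator_eq_one (hamb : Ambient 3 m G) {z : G} {E : Subgroup G}
    {i1 j1 s1 i2 j2 s2 : G} (d : PairData m z E i1 j1 s1 i2 j2 s2) {g : G}
    (hg : g ∈ centralizer (E : Set G)) (hcop : (orderOf ⁅g, z⁆).Coprime 3) : ⁅g, z⁆ = 1 := by
  haveI : Fact (Nat.Prime 3) := ⟨Nat.prime_three⟩
  have hm := hamb.three_le
  have hne : E ≠ ⊥ := by
    rintro rfl
    have := d.big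
    rw [Subgroup.card_bot] at this
    have := Nat.one_lt_pow (show m - 2 ≠ 0 by omega) (show 1 < 3 by norm_num)
    omega
  obtain ⟨H, hH, hexp, hHn, hfaith⟩ := exists_omega hamb.odd hamb.loc d.elem hne
  exact eq_one_of_commutator hamb.odd hexp (hH.trans (core0_le_centralizer E)) hHn hfaith d.elem
    d.zz d.zE (fun c hc => d.fix_mem hamb (hH hc) (hexp c hc)) hg hcop

end Cfsg.Agent.Lib.KlingerMason
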