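import Mathlib
import Cfsg.Agent.Lib.KlingerMason.PairData
import Cfsg.Agent.Lib.KlingerMason.Algebra

/-!
Klinger-Mason: no pair of quaternion groups, and the main theorem.
-/

set_option autoImplicit false

namespace Cfsg.Agent.Lib.KlingerMason

open Subgroup
open scoped commutatorElement

variable {G : Type*} [Group G] [Finite G] {m : ℕ}

theorem eq_one_of_sq_eq {x : G} (h3 : x ^ 3 = 1) (h2 : x * x = 1) : x = 1 := by
  calc x = x * (x * x) := by rw [h2, mul_one]
    _ = x ^ 3 := by rw [pow_succ, pow_two, mul_assoc]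
    _ = 1 := h3

omit [Finite G] in
/-- Two inverted elements that agree modulo fixed points are equal. -/
theorem inverted_unique {z : G} {E : Subgroup G} (hexp : ∀ e ∈ E, e ^ 3 = 1) (hzE : ∀ e ∈ E, z * e = e * z)
    {s s' : G} (hs : z * s * z⁻¹ = s⁻¹) (hs' : z * s' * z⁻¹ = s'⁻¹) (he : s⁻¹ * s' ∈ E)
    (hc : s * (s⁻¹ * s') = (s⁻¹ * s') * s) : s = s' := by
  set e := s⁻¹ * s' with hedef
  have h1 : s' = s * e := by rw [hedef]; group
  have h2 : z * (s * e) * z⁻¹ = s⁻¹ * e := by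
    calc z * (s * e) * z⁻¹ = (z * s * z⁻¹) * ((z * e) * z⁻¹) := by group
      _ = s⁻¹ * e := by rw [hs, hzE e he, mul_inv_cancel_right]
  rw [h1] at hs'
  rw [h2, mul_inv_rev, ← (show Commute s e from hc).inv_inv.eq, mul_right_inj] at hs'
  have h3 : e * e = 1 := by
    calc e * e = e⁻¹ * e := by rw [← hs']
      _ = 1 := inv_mul_cancel e
  have : e = 1 := by
    calc e = e * (e * e) := by rw [h3, mul_one]
      _ = e ^ 3 := (pow_three e).symm
      _ = 1 := hexp e he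
  rw [h1, this, mul_one]

/-- The plane `P` with, for each of its lines, an element of `C(E)` moving `t = i1 i2`. -/
theorem exists_plane (hamb : Ambient 3 m G) {z : G} {E : Subgroup G} {i1 j1 s1 i2 j2 s2 : G}
    (d : PairData m z E i1 j1 s1 i2 j2 s2) :
    ∃ P1 P2 : G,
      P1 ∈ core0 3 E ∧ P2 ∈ core0 3 E ∧ P1 ^ 3 = 1 ∧ P2 ^ 3 = 1 ∧ P1 * P2 = P2 * P1 ∧
      z * P1 * z⁻¹ = P1⁻¹ ∧ z * P2 * z⁻¹ = P2⁻¹ ∧
      (i1 * i2) * P1 = P1 * (i1 * i2) ∧ (i1 * i2) * P2 = P2 * (i1 * i2) ∧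
      (j1 * j2) * P1 = P1 * (j1 * j2) ∧ (j1 * j2) * P2 * (j1 * j2)⁻¹ = P2⁻¹ ∧ P1 ∉ E ∧ P2 ∉ E ∧
      (s1 * s2) * P1 = P1 * (s1 * s2) ∧
      (i1 * (s1 * s2) * i1⁻¹) * P2 = P2 * (i1 * (s1 * s2) * i1⁻¹) ∧
      ∃ w : G, w ∈ centralizer (E : Set G) ∧ z * w = w * z ∧ w * i1 = i1 * w ∧ w * j1 = j1 * w ∧
        w * s1 = s1 * w ∧
        (s1 * w) * (P1 * P2) = (P1 * P2) * (s1 * w) ∧
        (i1 * (s1 * w) * i1⁻¹) * (P1 * P2⁻¹) = (P1 * P2⁻¹) * (i1 * (s1 * w) * i1⁻¹) := by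
  classical
  haveI : Fact (Nat.Prime 3) := ⟨Nat.prime_three⟩
  haveI : Fact (Nat.Prime 2) := ⟨Nat.prime_two⟩
  have hm := hamb.three_le
  have hne : E ≠ ⊥ := by
    rintro rfl
    have := d.big
    rw [Subgroup.card_bot] at this
    have := Nat.one_lt_pow (show m - 2 ≠ 0 by omega) (show 1 < 3 by norm_num)
    omega
  obtain ⟨H, hH, hexp, hHn, hfaith⟩ := exists_omega hamb.odd hamb.loc d.elem hne
  have hHE : H ≤ centralizer (E : Set G) := hH.trans (core0_le_centralizer E)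
  have hcE : ∀ x ∈ centralizer (E : Set G), ∀ e ∈ E, x * e = e * x := fun x hx e he =>
    (mem_centralizer_iff.1 hx e he).symm
  have hinv : ∀ h ∈ H, z * h * z⁻¹ * h ∈ E := fun h hh =>
    conj_mul_self_mem hamb.odd hexp d.zz (hHn d.zE) hHE
      (fun c hc => d.fix_mem hamb (hH hc) (hexp c hc)) hh
  -- the quotient by the fixed points
  set N : Subgroup H := E.subgroupOf H with hN
  haveI : N.Normal := ⟨fun n hn g => by
    rw [hN, mem_subgroupOf] at hn ⊢
    push_cast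
    rw [hcE g (hHE g.2) n hn, mul_inv_cancel_right]
    exact hn⟩
  have hmk : ∀ {x y : H}, (QuotientGroup.mk x : H ⧸ N) = QuotientGroup.mk y ↔ (x : G)⁻¹ * y ∈ E :=
    fun {x y} => by rw [QuotientGroup.eq, hN, mem_subgroupOf]; rfl
  have hzconj : ∀ x : H, (QuotientGroup.mk (⟨z * x * z⁻¹,
      LocalChar.conj_mem_of_mem_normalizer (hHn d.zE) x.2⟩ : H) : H ⧸ N) = (QuotientGroup.mk x)⁻¹ := by
    intro x
    rw [← QuotientGroup.mk_inv, hmk]
    have := hinv x x.2
    have h' := inv_mem this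
    have e1 : (z * x * z⁻¹ * x)⁻¹ * 1 = (x : G)⁻¹ * ((z * x * z⁻¹)⁻¹) := by group
    rw [mul_one] at e1
    rw [e1] at h'
    push_cast
    have h'' := hcE x (hHE x.2) _ h'
    have e2 : (z * x * z⁻¹)⁻¹ * (x : G)⁻¹ = (x : G) * ((x : G)⁻¹ * (z * x * z⁻¹)⁻¹) * (x : G)⁻¹ := by
      group
    rw [e2, h'', mul_inv_cancel_right]
    exact h'
  have hqc : ∀ x y : H ⧸ N, x * y = y * x := by
    intro x y
    induction x using QuotientGroup.induction_on with
    | _ x =>
      induction y using QuotientGroup.induction_on with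
      | _ y =>
        have h1 := hzconj (x * y)
        have h2 : (⟨z * ((x * y : H) : G) * z⁻¹, LocalChar.conj_mem_of_mem_normalizer (hHn d.zE) (x * y).2⟩ : H)
            = ⟨z * x * z⁻¹, LocalChar.conj_mem_of_mem_normalizer (hHn d.zE) x.2⟩ *
              ⟨z * y * z⁻¹, LocalChar.conj_mem_of_mem_normalizer (hHn d.zE) y.2⟩ :=
          Subtype.ext (by push_cast; group)
        rw [h2, QuotientGroup.mk_mul, hzconj, hzconj, QuotientGroup.mk_mul, mul_inv_rev] at h1
        have := congrArg (fun u => u⁻¹) h1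
        simp only [mul_inv_rev, inv_inv] at this
        exact this.symm
  letI : CommGroup (H ⧸ N) := { (inferInstance : Group (H ⧸ N)) with mul_comm := hqc }
  let M := Additive (H ⧸ N)
  letI : Module (ZMod 3) M := AddCommGroup.zmodModule fun v => by
    show (3 : ℕ) • v = 0
    apply Additive.toMul.injective
    show (Additive.toMul v) ^ 3 = 1
    induction Additive.toMul v using QuotientGroup.induction_on with
    | _ x =>
      rw [← QuotientGroup.mk_pow]
      refine (QuotientGroup.eq_one_iff _).2 ?_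
      rw [mem_subgroupOf]
      push_cast
      rw [hexp x x.2]
      exact one_mem E
  let cl : H → M := fun x => Additive.ofMul (QuotientGroup.mk x)
  have hclsurj : ∀ v : M, ∃ x : H, cl x = v := fun v => by
    obtain ⟨x, hx⟩ := QuotientGroup.mk_surjective (Additive.toMul v)
    exact ⟨x, by show Additive.ofMul _ = v; rw [hx]; rfl⟩
  have hcleq : ∀ {x y : H}, cl x = cl y ↔ (x : G)⁻¹ * y ∈ E := fun {x y} => by
    rw [← hmk]; exact Additive.ofMul.injective.eq_iff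
  have hclmul : ∀ x y : H, cl (x * y) = cl x + cl y := fun x y => rfl
  have hclinv : ∀ x : H, cl x⁻¹ = -(cl x) := fun x => rfl
  let conjH : ∀ g, g ∈ centralizer (E : Set G) → H → H := fun g hg x =>
    ⟨g * x * g⁻¹, LocalChar.conj_mem_of_mem_normalizer (hHn hg) x.2⟩
  have hact : ∀ g (hg : g ∈ centralizer (E : Set G)),
      ∃ f : M →+ M, ∀ x : H, f (cl x) = cl (conjH g hg x) := by
    intro g hg
    let c : H →* H :=
      { toFun := conjH g hg
        map_one' := Subtype.ext (by show g * (1 : G) * g⁻¹ = 1; group)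
        map_mul' := fun x y => Subtype.ext (by
          show g * ((x : G) * y) * g⁻¹ = g * x * g⁻¹ * (g * y * g⁻¹); group) }
    have hcN : N ≤ N.comap c := fun n hn => by
      rw [mem_comap, hN, mem_subgroupOf]
      show g * (n : G) * g⁻¹ ∈ E
      rw [hcE g hg n hn, mul_inv_cancel_right]
      exact hn
    refine ⟨MonoidHom.toAdditive (QuotientGroup.map N N c hcN), fun x => ?_⟩
    show Additive.ofMul (QuotientGroup.map N N c hcN (QuotientGroup.mk x)) = _
    rw [QuotientGroup.map_mk]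
    rfl
  choose act hact using hact
  have hcomp : ∀ {g g'} (hg : g ∈ centralizer (E : Set G)) (hg' : g' ∈ centralizer (E : Set G)) (v : M),
      act g hg (act g' hg' v) = act (g * g') (mul_mem hg hg') v := by
    intro g g' hg hg' v
    obtain ⟨x, rfl⟩ := hclsurj v
    rw [hact, hact, hact]
    congr 1
    exact Subtype.ext (by show g * (g' * x * g'⁻¹) * g⁻¹ = g * g' * x * (g * g')⁻¹; group)
  have hcongr : ∀ {g g'} (hg : g ∈ centralizer (E : Set G)) (hg' : g' ∈ centralizer (E : Set G)),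
      g = g' → ∀ v, act g hg v = act g' hg' v := fun {g g'} hg hg' h v => by subst h; rfl
  have hone : ∀ (h1 : (1 : G) ∈ centralizer (E : Set G)) (v : M), act 1 h1 v = v := by
    intro h1 v
    obtain ⟨x, rfl⟩ := hclsurj v
    rw [hact]; congr 1
    exact Subtype.ext (by show (1 : G) * x * (1 : G)⁻¹ = x; group)
  have hz : ∀ v, act z d.zE v = -v := by
    intro v
    obtain ⟨x, rfl⟩ := hclsurj v
    rw [hact, ← hclinv]
    show Additive.ofMul _ = Additive.ofMul _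
    rw [hzconj]; rfl
  set I1 := act i1 d.i1E with hI1
  set J1 := act j1 d.j1E with hJ1
  set S1 := act s1 d.s1E with hS1
  set I2 := act i2 d.i2E with hI2
  set J2 := act j2 d.j2E with hJ2
  set S2 := act s2 d.s2E with hS2
  have hneg : ∀ (a b : G) (ha : a ∈ centralizer (E : Set G)) (hb : b ∈ centralizer (E : Set G)),
      a = z * b → ∀ v, act a ha v = -(act b hb v) := fun a b ha hb h v => by
    rw [hcongr ha (mul_mem d.zE hb) h, ← hcomp d.zE hb, hz]
  have sq1 : ∀ {i : G} (hi : i ∈ centralizer (E : Set G)), i * i = z → ∀ v, act i hi (act i hi v) = -v :=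
    fun {i} hi h v => by rw [hcomp, hcongr (mul_mem hi hi) d.zE h, hz]
  have anti : ∀ {i j : G} (hi : i ∈ centralizer (E : Set G)) (hj : j ∈ centralizer (E : Set G)),
      j * i = z * i * j → ∀ v, act j hj (act i hi v) = -(act i hi (act j hj v)) :=
    fun {i j} hi hj h v => by
      rw [hcomp, hcomp, hneg _ _ (mul_mem hj hi) (mul_mem hi hj) (by rw [h, mul_assoc])]
  have push2 : ∀ {s i j : G} (hs : s ∈ centralizer (E : Set G)) (hi : i ∈ centralizer (E : Set G))
      (hj : j ∈ centralizer (E : Set G)), s * i * s⁻¹ = j → ∀ v,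
      act s hs (act i hi v) = act j hj (act s hs v) := fun {s i j} hs hi hj h v => by
    rw [hcomp, hcomp, hcongr (mul_mem hs hi) (mul_mem hj hs) (by rw [← h]; group)]
  have cube : ∀ {s : G} (hs : s ∈ centralizer (E : Set G)), s ^ 3 = 1 → ∀ v,
      act s hs (act s hs (act s hs v)) = v := fun {s} hs h v => by
    rw [hcomp, hcomp, hcongr (mul_mem (mul_mem hs hs) hs) (one_mem _)
      (by rw [← h, pow_succ, pow_two]), hone]
  have comm : ∀ {a b : G} (ha : a ∈ centralizer (E : Set G)) (hb : b ∈ centralizer (E : Set G)),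
      a * b = b * a → ∀ v, act a ha (act b hb v) = act b hb (act a ha v) := fun {a b} ha hb h v => by
    rw [hcomp, hcomp, hcongr (mul_mem ha hb) (mul_mem hb ha) h]
  have hrep : PairRep I1 J1 S1 I2 J2 S2 :=
    { i1i1 := sq1 _ d.q1.ii, j1j1 := sq1 _ d.q1.jj, j1i1 := anti _ _ d.q1.ji
      s1i1 := push2 _ _ _ d.q1.si
      s1j1 := fun v => by
        show act s1 _ (act j1 _ v) = act i1 _ (act j1 _ (act s1 _ v))
        rw [push2 _ _ (mul_mem d.i1E d.j1E) d.q1.sj, hcomp d.i1E d.j1E]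
      s1s1 := cube _ d.q1.s3
      i2i2 := sq1 _ d.q2.ii, j2j2 := sq1 _ d.q2.jj, j2i2 := anti _ _ d.q2.ji
      s2i2 := push2 _ _ _ d.q2.si
      s2j2 := fun v => by
        show act s2 _ (act j2 _ v) = act i2 _ (act j2 _ (act s2 _ v))
        rw [push2 _ _ (mul_mem d.i2E d.j2E) d.q2.sj, hcomp d.i2E d.j2E]
      s2s2 := cube _ d.q2.s3
      i2i1 := comm _ _ d.ii, i2j1 := comm _ _ d.ij, j2i1 := comm _ _ d.ji, j2j1 := comm _ _ d.jj
      i2s1 := comm _ _ d.is, j2s1 := comm _ _ d.js, s2i1 := comm _ _ d.si, s2j1 := comm _ _ d.sj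
      s2s1 := comm _ _ d.ss }
  haveI : Nontrivial M := by
    obtain ⟨x, hx⟩ : ∃ x : H, cl x ≠ cl 1 := by
      by_contra hall
      push_neg at hall
      refine d.ji_ne ?_
      have hHsub : ∀ h ∈ H, h ∈ E := fun h hh => by
        have := hcleq.1 (hall ⟨h, hh⟩).symm
        simpa using this
      have h1 := hfaith z d.zE (((Nat.coprime_primes Nat.prime_two Nat.prime_three).2 (by norm_num)).coprime_dvd_left
        (orderOf_dvd_of_pow_eq_one (by rw [pow_two]; exact d.zz))) fun h hh =>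
          hcE z d.zE h (hHsub h hh)
      exact absurd h1 d.z1
    exact ⟨⟨_, _, hx⟩⟩
  obtain ⟨q, hq⟩ := hrep.exists_good
  have hrepv : ∀ v : M, ∃ x : H, cl x = v ∧ z * x * z⁻¹ = (x : G)⁻¹ := by
    intro v
    obtain ⟨y, rfl⟩ := hclsurj v
    obtain ⟨c, hc, s, hs, hzc, hzs, hy⟩ :=
      exists_fixed_mul_inverted hamb.odd hexp d.zz (hHn d.zE) y.2
    refine ⟨⟨s, hs⟩, hcleq.2 ?_, hzs⟩
    show s⁻¹ * (y : G) ∈ E
    have hcE' := d.fix_mem hamb (hH hc) (hexp c hc) hzc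
    rw [hy, ← mul_assoc, mul_assoc s⁻¹, ← hcE s (hHE hs) c hcE', inv_mul_cancel_left]
    exact hcE'
  have hexpE : ∀ e ∈ E, e ^ 3 = 1 := d.elem.2
  have hzEc : ∀ e ∈ E, z * e = e * z := hcE z d.zE
  have huniq : ∀ {x y : H}, cl x = cl y → z * x * z⁻¹ = (x : G)⁻¹ → z * y * z⁻¹ = (y : G)⁻¹ →
      (x : G) = y := fun {x y} h hx hy =>
    inverted_unique hexpE hzEc hx hy (hcleq.1 h) (hcE x (hHE x.2) _ (hcleq.1 h))
  have hconjinv : ∀ {g} (hg : g ∈ centralizer (E : Set G)), z * g = g * z → ∀ x : H,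
      z * x * z⁻¹ = (x : G)⁻¹ →
      z * (conjH g hg x : G) * z⁻¹ = ((conjH g hg x : H) : G)⁻¹ := by
    intro g hg hzg x hx
    show z * (g * x * g⁻¹) * z⁻¹ = (g * x * g⁻¹)⁻¹
    calc z * (g * x * g⁻¹) * z⁻¹ = (z * g) * x * (z * g)⁻¹ := by group
      _ = g * (z * x * z⁻¹) * g⁻¹ := by rw [hzg]; group
      _ = (g * x * g⁻¹)⁻¹ := by rw [hx]; group
  have hfixg : ∀ {g} (hg : g ∈ centralizer (E : Set G)), z * g = g * z → ∀ x : H,
      z * x * z⁻¹ = (x : G)⁻¹ → act g hg (cl x) = cl x → g * x = x * g := by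
    intro g hg hzg x hx hfx
    rw [hact] at hfx
    have h' : g * x * g⁻¹ = (x : G) := huniq hfx (hconjinv hg hzg x hx) hx
    calc g * x = g * x * g⁻¹ * g := by group
      _ = x * g := by rw [h']
  have hnegg : ∀ {g} (hg : g ∈ centralizer (E : Set G)), z * g = g * z → ∀ x : H,
      z * x * z⁻¹ = (x : G)⁻¹ → act g hg (cl x) = -(cl x) → g * x * g⁻¹ = (x : G)⁻¹ := by
    intro g hg hzg x hx hfx
    rw [hact, ← hclinv] at hfx
    refine huniq hfx (hconjinv hg hzg x hx) ?_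
    push_cast
    rw [← conj_inv, hx]
  obtain ⟨P1, hP1c, hP1i⟩ := hrepv q
  obtain ⟨P2, hP2c, hP2i⟩ := hrepv (I1 q)
  have hzi1 : z * i1 = i1 * z := d.zc d.i1Q
  have hzj1 : z * j1 = j1 * z := d.zc d.j1Q
  have hzi2 : z * i2 = i2 * z := d.zc d.i2Q
  have hzj2 : z * j2 = j2 * z := d.zc d.j2Q
  have hzt : z * (i1 * i2) = (i1 * i2) * z := d.zc (mul_mem d.i1Q d.i2Q)
  have hzs : z * (j1 * j2) = (j1 * j2) * z := d.zc (mul_mem d.j1Q d.j2Q)
  have htE := mul_mem d.i1E d.i2E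
  have hsE := mul_mem d.j1E d.j2E
  obtain ⟨hq0, hqi, hqj, hqs1, hqs2⟩ := hq
  have hI1i : ∀ v, I1 (I1 v) = -v := hrep.i1i1
  have ht1 : act (i1 * i2) htE q = q := by
    rw [← hcomp d.i1E d.i2E]
    show I1 (I2 q) = q
    rw [hqi, map_neg, hI1i, neg_neg]
  have ht2 : act (i1 * i2) htE (I1 q) = I1 q := by
    rw [← hcomp d.i1E d.i2E]
    show I1 (I2 (I1 q)) = I1 q
    rw [hrep.i2i1, hqi, map_neg, hI1i, neg_neg]
  have hs1' : act (j1 * j2) hsE q = q := by
    rw [← hcomp d.j1E d.j2E]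
    show J1 (J2 q) = q
    rw [hqj, map_neg, hrep.j1j1, neg_neg]
  have hs2' : act (j1 * j2) hsE (I1 q) = -(I1 q) := by
    rw [← hcomp d.j1E d.j2E]
    show J1 (J2 (I1 q)) = -(I1 q)
    rw [hrep.j2i1, hqj, hrep.j1i1, map_neg, hrep.j1j1, neg_neg]
  have hc1 : (j1 * j2) * P1 = P1 * (j1 * j2) := hfixg hsE hzs P1 hP1i (by rw [hP1c, hs1'])
  have hc2 : (j1 * j2) * P2 * (j1 * j2)⁻¹ = (P2 : G)⁻¹ :=
    hnegg hsE hzs P2 hP2i (by rw [hP2c, hs2'])
  -- `P1` and `P2` commute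
  have hcm : (P1 : G) * P2 = P2 * P1 := by
    set c := (P1 : G) * P2 * (P1 : G)⁻¹ * (P2 : G)⁻¹ with hcdef
    have hcE1 : c ∈ E := by
      have h0 : cl (P2 * P1) = cl (P1 * P2) := by rw [hclmul, hclmul, add_comm]
      have h1 := hcleq.1 h0
      have h2 := hcE _ (hHE (mul_mem P2.2 P1.2)) _ h1
      push_cast at h1 h2
      have : c = (P2 : G) * P1 * (((P2 : G) * P1)⁻¹ * ((P1 : G) * P2)) * ((P2 : G) * P1)⁻¹ := by
        rw [hcdef]; group
      rw [this, h2, mul_inv_cancel_right]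
      exact h1
    have hsc : (j1 * j2) * c * (j1 * j2)⁻¹ = c := by
      rw [hcE _ hsE c hcE1, mul_inv_cancel_right]
    have hP1' : (j1 * j2) * P1 * (j1 * j2)⁻¹ = (P1 : G) := by rw [hc1, mul_inv_cancel_right]
    have h3 : c = (P1 : G) * (P2 : G)⁻¹ * (P1 : G)⁻¹ * P2 := by
      calc c = (j1 * j2) * c * (j1 * j2)⁻¹ := hsc.symm
        _ = ((j1 * j2) * P1 * (j1 * j2)⁻¹) * ((j1 * j2) * P2 * (j1 * j2)⁻¹) *
            ((j1 * j2) * P1 * (j1 * j2)⁻¹)⁻¹ * ((j1 * j2) * P2 * (j1 * j2)⁻¹)⁻¹ := by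
              rw [hcdef]; group
        _ = _ := by rw [hP1', hc2, inv_inv]
    have h4 : c = (P2 : G)⁻¹ * c⁻¹ * P2 := h3.trans (by rw [hcdef]; group)
    have h5 : c = c⁻¹ := by
      calc c = (P2 : G)⁻¹ * c⁻¹ * P2 := h4
        _ = (P2 : G)⁻¹ * (P2 * c⁻¹) := by rw [mul_assoc, hcE _ (hHE P2.2) _ (inv_mem hcE1)]
        _ = c⁻¹ := inv_mul_cancel_left _ _
    have h6 : c = 1 := eq_one_of_sq_eq (hexpE c hcE1) (by nth_rw 2 [h5]; exact mul_inv_cancel c)
    calc (P1 : G) * P2 = c * ((P2 : G) * P1) := by rw [hcdef]; group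
      _ = P2 * P1 := by rw [h6, one_mul]
  have hprodinv : ∀ (X Y : H), (X : G) * Y = Y * X → z * X * z⁻¹ = (X : G)⁻¹ →
      z * Y * z⁻¹ = (Y : G)⁻¹ → z * ((X * Y : H) : G) * z⁻¹ = ((X * Y : H) : G)⁻¹ := by
    intro X Y hXY hX hY
    push_cast
    calc z * ((X : G) * Y) * z⁻¹ = (z * X * z⁻¹) * (z * Y * z⁻¹) := by group
      _ = ((X : G) * Y)⁻¹ := by rw [hX, hY, ← mul_inv_rev, hXY]
  have hP2inv' : z * ((P2⁻¹ : H) : G) * z⁻¹ = ((P2⁻¹ : H) : G)⁻¹ := by
    push_cast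
    rw [← conj_inv, hP2i]
  have hsumi := hprodinv P1 P2 hcm hP1i hP2i
  have hdifi := hprodinv P1 P2⁻¹ (by push_cast; exact ((show Commute (P1 : G) P2 from hcm).inv_right).eq)
    hP1i hP2inv'
  have hzs12 : z * (s1 * s2) = (s1 * s2) * z := by
    rw [← mul_assoc, d.zs1, mul_assoc, d.zs2, mul_assoc]
  have hzinv : ∀ {g : G}, z * g = g * z → z * g⁻¹ = g⁻¹ * z := fun {g} h =>
    (show Commute z g from h).inv_right.eq
  have hzmul : ∀ {g g' : G}, z * g = g * z → z * g' = g' * z → z * (g * g') = (g * g') * z :=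
    fun {g g'} h h' => ((show Commute z g from h).mul_right h').eq
  set g0 := s1 * s2 with hg0
  have hg0E : g0 ∈ centralizer (E : Set G) := mul_mem d.s1E d.s2E
  set w := z * (i2 * j2 * s2 * s2 * i2 * j2) with hw
  have hwE : w ∈ centralizer (E : Set G) :=
    mul_mem d.zE (mul_mem (mul_mem (mul_mem (mul_mem (mul_mem d.i2E d.j2E) d.s2E) d.s2E) d.i2E) d.j2E)
  have hzw : z * w = w * z := hzmul rfl
    (hzmul (hzmul (hzmul (hzmul (hzmul hzi2 hzj2) d.zs2) d.zs2) hzi2) hzj2)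
  have hwc : ∀ x : G, z * x = x * z → i2 * x = x * i2 → j2 * x = x * j2 → s2 * x = x * s2 →
      w * x = x * w := by
    intro x hz' hi hj hs
    exact ((show Commute z x from hz').mul_left ((((((show Commute i2 x from hi).mul_left hj).mul_left
      hs).mul_left hs).mul_left hi).mul_left hj)).eq
  have hwi := hwc i1 hzi1 d.ii d.ji d.si
  have hwj := hwc j1 hzj1 d.ij d.jj d.sj
  have hws := hwc s1 d.zs1 d.is d.js d.ss
  have hgwE : s1 * w ∈ centralizer (E : Set G) := mul_mem d.s1E hwE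
  have hgw : act (s1 * w) hgwE (q + I1 q) = q + I1 q := by
    have h1 := hrep.fix_add ⟨hq0, hqi, hqj, hqs1, hqs2⟩
    refine Eq.trans ?_ h1
    rw [hneg (s1 * w) (s1 * (i2 * j2 * s2 * s2 * i2 * j2)) hgwE
      (mul_mem d.s1E (mul_mem (mul_mem (mul_mem (mul_mem (mul_mem d.i2E d.j2E) d.s2E) d.s2E) d.i2E) d.j2E))
      (by rw [hw, ← mul_assoc, ← d.zs1, mul_assoc])]
    simp only [hI2, hJ2, hS1, hS2, hcomp]
    congr 1
    exact hcongr _ _ (by group) _
  have hi1inv : ∀ (h' : i1⁻¹ ∈ centralizer (E : Set G)) (v : M), act i1⁻¹ h' (I1 v) = v := fun h' v => by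
    rw [hI1, hcomp, hcongr (mul_mem h' d.i1E) (one_mem _) (inv_mul_cancel i1), hone]
  have hconj : ∀ (g : G) (hg : g ∈ centralizer (E : Set G))
      (hg' : i1 * g * i1⁻¹ ∈ centralizer (E : Set G)) (v : M),
      act g hg v = v → act (i1 * g * i1⁻¹) hg' (I1 v) = I1 v := fun g hg hg' v hv => by
    rw [← hcomp (mul_mem d.i1E hg) (inv_mem d.i1E), hi1inv, ← hcomp d.i1E hg, hv]
  have hg0q : act g0 hg0E q = q := by
    rw [← hcomp d.s1E d.s2E]
    exact hrep.fix_prod ⟨hq0, hqi, hqj, hqs1, hqs2⟩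
  refine ⟨P1, P2, hH P1.2, hH P2.2, hexp _ P1.2, hexp _ P2.2, hcm, hP1i, hP2i,
    hfixg htE hzt P1 hP1i (by rw [hP1c, ht1]), hfixg htE hzt P2 hP2i (by rw [hP2c, ht2]),
    hc1, hc2, ?_, ?_, hfixg hg0E hzs12 P1 hP1i (by rw [hP1c, hg0q]), ?_, w, hwE, hzw, hwi, hwj, hws, ?_, ?_⟩
  · intro h
    refine hq0 ?_
    rw [← hP1c, show (0 : M) = cl 1 from rfl, hcleq]
    simpa using h
  · intro h
    have h0 : I1 q = 0 := by
      rw [← hP2c, show (0 : M) = cl 1 from rfl, hcleq]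
      simpa using h
    exact hq0 (by have := hI1i q; rw [h0, map_zero] at this; exact neg_eq_zero.1 this.symm)
  · exact hfixg (mul_mem (mul_mem d.i1E hg0E) (inv_mem d.i1E))
      (hzmul (hzmul hzi1 hzs12) (hzinv hzi1)) P2 hP2i (by rw [hP2c]; exact hconj g0 hg0E _ q hg0q)
  · exact hfixg hgwE (hzmul d.zs1 hzw) (P1 * P2) hsumi (by rw [hclmul, hP1c, hP2c]; exact hgw)
  · have hv : q - I1 q = I1 (-(q + I1 q)) := by
      rw [map_neg, map_add, hI1i]; abel
    have := hfixg (mul_mem (mul_mem d.i1E hgwE) (inv_mem d.i1E))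
      (hzmul (hzmul hzi1 (hzmul d.zs1 hzw)) (hzinv hzi1)) (P1 * P2⁻¹) hdifi (by
        rw [hclmul, hclinv, hP1c, hP2c, ← sub_eq_add_neg, hv]
        exact hconj (s1 * w) hgwE _ _ (by rw [map_neg, hgw]))
    simpa using this

omit [Finite G] in
/-- `i1 (s1 w) i1⁻¹` and `s1 w` move `t = i1 i2`. -/
theorem PairData.moves {z : G} {E : Subgroup G} {i1 j1 s1 i2 j2 s2 : G}
    (d : PairData m z E i1 j1 s1 i2 j2 s2) {w : G} (hi : w * i1 = i1 * w) (hj : w * j1 = j1 * w)
    (hs : w * s1 = s1 * w) : ¬ (s1 * w) * (i1 * i2) = (i1 * i2) * (s1 * w) := by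
  intro h
  set x := w * i2 * w⁻¹ with hx
  have hxi : x * i1 = i1 * x :=
    (((show Commute w i1 from hi).mul_left d.ii).mul_left (show Commute w i1 from hi).inv_left).eq
  have hxs : x * s1 = s1 * x :=
    (((show Commute w s1 from hs).mul_left d.is).mul_left (show Commute w s1 from hs).inv_left).eq
  have h1 : j1 * x = i1 * i2 := by
    calc j1 * x = (s1 * i1 * s1⁻¹) * x := by rw [d.q1.si]
      _ = s1 * i1 * x * s1⁻¹ := by
          rw [mul_assoc (s1 * i1), ← (show Commute x s1 from hxs).inv_right.eq, ← mul_assoc]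
      _ = s1 * (w * i1 * w⁻¹) * x * s1⁻¹ := by rw [hi, mul_inv_cancel_right]
      _ = (s1 * w) * (i1 * i2) * (s1 * w)⁻¹ := by rw [hx]; group
      _ = i1 * i2 := by rw [h, mul_inv_cancel_right]
  refine d.ji_ne ?_
  have hj1 : j1 = i1 * i2 * x⁻¹ := by rw [← h1, mul_inv_cancel_right]
  rw [hj1]
  exact ((((Commute.refl i1).mul_left d.ii).mul_left
    (show Commute x i1 from hxi).inv_left).symm).eq

theorem no_pair (hamb : Ambient 3 m G) (hG2 : IsCharacteristicTwoType G) {z : G} {E : Subgroup G}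
    {i1 j1 s1 i2 j2 s2 : G} (d : PairData m z E i1 j1 s1 i2 j2 s2) : False := by
  classical
  haveI : Fact (Nat.Prime 3) := ⟨Nat.prime_three⟩
  have hm := hamb.three_le
  obtain ⟨P1, P2, hP1, hP2, hP13, hP23, hcm, hzP1, hzP2, htP1, htP2, hsP1, hsP2, hP1E, hP2E, hgP1,
    hgP2, w, hwE, hzw, hwi, hwj, hws, hgS, hgD⟩ := exists_plane hamb d
  set t := i1 * i2 with ht
  set P := zpowers P1 ⊔ zpowers P2 with hPdef
  have hPe : IsElementaryAbelian 3 P := sup_elem (zpowers_elem hP13) (zpowers_elem hP23) fun u hu v hv => by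
    obtain ⟨i, rfl⟩ := hu
    obtain ⟨j, rfl⟩ := hv
    exact ((show Commute P1 P2 from hcm).zpow_zpow i j).eq
  have hP0 : P ≤ core0 3 E := sup_le (zpowers_le.2 hP1) (zpowers_le.2 hP2)
  have hzP : ∀ x ∈ P, z * x * z⁻¹ = x⁻¹ := by
    intro x hx
    have hn : zpowers P1 ≤ normalizer (zpowers P2 : Set G) := zpowers_le.2 (mem_normalizer_zpowers hcm)
    have hx' : x ∈ ((zpowers P1 ⊔ zpowers P2 : Subgroup G) : Set G) := hx
    rw [coe_mul_of_left_le_normalizer_right _ _ hn] at hx'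
    obtain ⟨u, hu, v, hv, rfl⟩ := hx'
    obtain ⟨i, rfl⟩ := hu
    obtain ⟨j, rfl⟩ := hv
    show z * (P1 ^ i * P2 ^ j) * z⁻¹ = (P1 ^ i * P2 ^ j)⁻¹
    calc z * (P1 ^ i * P2 ^ j) * z⁻¹ = (z * P1 * z⁻¹) ^ i * (z * P2 * z⁻¹) ^ j := by
          rw [conj_zpow, conj_zpow]; group
      _ = (P1 ^ i * P2 ^ j)⁻¹ := by
          rw [hzP1, hzP2, inv_zpow, inv_zpow, ← mul_inv_rev,
            ((show Commute P1 P2 from hcm).zpow_zpow i j).eq]
  have hPE : ∀ x ∈ P, x ∈ E → x = 1 := fun x hx hxE => eq_one_of_sq_eq (hPe.2 x hx) (by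
    have h1 := hzP x hx
    rw [← mem_centralizer_iff.1 d.zE x hxE, mul_inv_cancel_right] at h1
    nth_rw 2 [h1]; exact mul_inv_cancel x)
  set A1 := E ⊔ P with hA1
  have hA1e : IsElementaryAbelian 3 A1 := sup_elem d.elem hPe fun u hu v hv =>
    mem_centralizer_iff.1 (core0_le_centralizer E (hP0 hv)) u hu
  have hA1t : A1 ≤ centralizer ({t} : Set G) := by
    refine sup_le (fun e he => mem_centralizer_singleton_iff.2
      (mem_centralizer_iff.1 (mul_mem d.i1E d.i2E) e he)) (sup_le (zpowers_le.2 ?_) (zpowers_le.2 ?_))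
    · exact mem_centralizer_singleton_iff.2 htP1.symm
    · exact mem_centralizer_singleton_iff.2 htP2.symm
  have ht1 : t ≠ 1 := by
    intro h
    refine d.ji_ne ?_
    have : i2 = i1⁻¹ := (inv_eq_of_mul_eq_one_right h).symm
    have h2 := d.ij
    rw [this] at h2
    exact ((show Commute i1⁻¹ j1 from h2).inv_left).eq |> fun h3 => by rw [inv_inv] at h3; exact h3
  have htt : t * t = 1 := d.prod_sq.1
  have hPcard : 9 ≤ Nat.card P := by
    have h := card_mul_le_sup (U := zpowers P1) (V := zpowers P2) fun x hx hx' => by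
      have hc : (j1 * j2) * x * (j1 * j2)⁻¹ = x := by
        obtain ⟨i, rfl⟩ := hx
        show (j1 * j2) * P1 ^ i * (j1 * j2)⁻¹ = P1 ^ i
        rw [((show Commute (j1 * j2) P1 from hsP1).zpow_right i).eq, mul_inv_cancel_right]
      have hi : (j1 * j2) * x * (j1 * j2)⁻¹ = x⁻¹ := by
        obtain ⟨i, rfl⟩ := hx'
        show (j1 * j2) * P2 ^ i * (j1 * j2)⁻¹ = (P2 ^ i)⁻¹
        rw [← conj_zpow, hsP2, inv_zpow]
      exact eq_one_of_sq_eq (hPe.2 x (mem_sup_left hx))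
        (by nth_rw 2 [hc.symm.trans hi]; exact mul_inv_cancel x)
    rw [Nat.card_zpowers, Nat.card_zpowers, orderOf_eq_prime hP13 (fun h => hP1E (h ▸ one_mem E)),
      orderOf_eq_prime hP23 (fun h => hP2E (h ▸ one_mem E))] at h
    exact h
  have hprod := card_mul_le_sup (U := E) (V := P) fun x hx hx' => hPE x hx' hx
  have hup : Nat.card A1 ≤ 3 ^ m := hamb.bound A1 hA1e t ht1 htt hA1t
  have hlow : 3 ^ m ≤ Nat.card A1 := by
    refine le_trans ?_ hprod
    rw [show m = m - 2 + 2 by omega, pow_add]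
    exact Nat.mul_le_mul (by simpa using d.big) (by simpa using hPcard)
  have hEcard : Nat.card E ≤ 3 ^ (m - 2) := by
    have h1 : Nat.card E * 9 ≤ 3 ^ (m - 2) * 9 :=
      calc Nat.card E * 9 ≤ Nat.card E * Nat.card P := Nat.mul_le_mul_left _ hPcard
        _ ≤ 3 ^ m := hprod.trans hup
        _ = 3 ^ (m - 2) * 9 := by rw [show (9 : ℕ) = 3 ^ 2 by rfl, ← pow_add]; congr 1; omega
    omega
  obtain ⟨hA, hz'⟩ := acts_twoCore (by norm_num) hG2 hA1e (le_antisymm hup hlow) htt ht1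
    fun a ha => (mem_centralizer_singleton_iff.1 (hA1t ha))
  obtain ⟨C, hC, hCn⟩ := exists_sympl hamb hA hz'
  have hPne : P ≠ ⊥ := fun h => by rw [h, Subgroup.card_bot] at hPcard; omega
  obtain ⟨B, hB, hPB⟩ := exists_kernel_not_le hamb hA hC (X := P) le_sup_right hPne
  have hEB : ¬ E ≤ B := by
    intro h
    refine hB.2 fun y hy => ?_
    have hyE := Subgroup.centralizer_le (SetLike.coe_subset_coe.2 h) hy.2
    have hA1y : A1 ≤ centralizer ({y} : Set G) := sup_le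
      (fun e he => mem_centralizer_singleton_iff.2 (mem_centralizer_iff.1 hyE e he))
      (fun x hx => mem_centralizer_singleton_iff.2 ((commute_core0_twoCore (p := 3) (by norm_num)
        (hP0 hx) (mem_centralizer_singleton_iff.1 (hA1t (mem_sup_right hx))) (hC.le hy.1) hyE)).symm)
    exact mem_centralizer_iff.2 fun a ha => mem_centralizer_singleton_iff.1 (hA1y ha)
  -- the conjugate kernel
  have hzzi : z⁻¹ = z := inv_eq_of_mul_eq_one_right d.zz
  have hzt : z * t = t * z := d.zc (mul_mem d.i1Q d.i2Q)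
  have hzC : z ∈ normalizer (C : Set G) := hCn (mem_normalizer_twoCore hzt)
  set e := (MulAut.conj z).toMonoidHom with hedef
  have heA : A1.map e = A1 := by
    have hmap : A1.map e ≤ A1 := by
      rw [Subgroup.map_sup]
      refine sup_le ?_ ?_
      · rintro _ ⟨x, hx, rfl⟩
        refine mem_sup_left ?_
        show z * x * z⁻¹ ∈ E
        rw [← mem_centralizer_iff.1 d.zE x hx, mul_inv_cancel_right]; exact hx
      · rintro _ ⟨x, hx, rfl⟩
        refine mem_sup_right ?_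
        show z * x * z⁻¹ ∈ P
        rw [hzP x hx]; exact inv_mem hx
    exact Subgroup.eq_of_le_of_card_ge hmap (LocalChar.card_conj_map A1 z).ge
  set B' := B.map e with hB'def
  have hB'h : IsHyper 3 m A1 B' := by
    refine ⟨heA ▸ Subgroup.map_mono hB.1.le, ?_, fun h => hB.1.ne (Subgroup.map_injective
      (MulAut.conj z).injective (h.trans heA.symm))⟩
    rw [hB'def, LocalChar.card_conj_map]; exact hB.1.big
  have hB' : IsKernel 3 m A1 C B' := by
    refine ⟨hB'h, fun h => hB.2 ?_⟩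
    intro y hy
    have hy' : z * y * z⁻¹ ∈ C ⊓ centralizer (B' : Set G) :=
      ⟨LocalChar.conj_mem_of_mem_normalizer hzC hy.1, by
        rw [hB'def, LocalChar.centralizer_conj_map]
        exact LocalChar.conj_mem_conj_map hy.2⟩
    refine mem_centralizer_iff.2 fun a ha => ?_
    have ha' : z * a * z⁻¹ ∈ A1 := heA ▸ ⟨a, ha, rfl⟩
    have h1 := mem_centralizer_iff.1 (h hy') _ ha'
    have h2 : z * (a * y) * z⁻¹ = z * (y * a) * z⁻¹ := by
      calc z * (a * y) * z⁻¹ = z * a * z⁻¹ * (z * y * z⁻¹) := by group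
        _ = z * y * z⁻¹ * (z * a * z⁻¹) := h1
        _ = z * (y * a) * z⁻¹ := by group
    exact mul_left_cancel (mul_right_cancel h2)
  -- decomposition of elements of `A1`
  have hdec : ∀ x ∈ A1, ∃ ee ∈ E, ∃ π ∈ P, x = ee * π ∧ z * x * z⁻¹ = ee * π⁻¹ := by
    intro x hx
    have hn : E ≤ normalizer (P : Set G) := fun y hy => centralizer_le_normalizer _
      (mem_centralizer_iff.2 fun v hv =>
        (mem_centralizer_iff.1 (core0_le_centralizer E (hP0 hv)) y hy).symm)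
    have hx' : x ∈ ((E ⊔ P : Subgroup G) : Set G) := hx
    rw [coe_mul_of_left_le_normalizer_right _ _ hn] at hx'
    obtain ⟨ee, hee, π, hπ, rfl⟩ := hx'
    refine ⟨ee, hee, π, hπ, rfl, ?_⟩
    show z * (ee * π) * z⁻¹ = ee * π⁻¹
    calc z * (ee * π) * z⁻¹ = (z * ee) * z⁻¹ * (z * π * z⁻¹) := by group
      _ = ee * π⁻¹ := by rw [← mem_centralizer_iff.1 d.zE ee hee, mul_inv_cancel_right, hzP π hπ]
  have hsplit : ∀ x ∈ B, z * x * z⁻¹ ∈ B → ∀ ee ∈ E, ∀ π ∈ P, x = ee * π →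
      z * x * z⁻¹ = ee * π⁻¹ → π ∈ B ∧ ee ∈ B := by
    intro x hx hx' ee hee π hπ h1 h2
    have h3 : π * π ∈ B := by
      have := mul_mem (inv_mem hx') hx
      rw [h2, h1] at this
      convert this using 1; group
    have hπB : π ∈ B := by
      have := mul_mem h3 h3
      rwa [show π * π * (π * π) = π ^ 3 * π by simp only [pow_succ, pow_zero, one_mul, mul_assoc],
        hPe.2 π hπ, one_mul] at this
    refine ⟨hπB, ?_⟩
    have := mul_mem hx (inv_mem hπB)
    rwa [h1, mul_inv_cancel_right] at this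
  -- `B ∩ P` has order at most three
  have hBP : Nat.card (B ⊓ P : Subgroup G) ≤ 3 := by
    haveI : Fact (Nat.Prime 3) := ⟨Nat.prime_three⟩
    obtain ⟨k, hk⟩ := IsPGroup.iff_card.1 ((isPGroup_of_pow hPe.2).to_le (inf_le_right : B ⊓ P ≤ P))
    have hlt : Nat.card (B ⊓ P : Subgroup G) < Nat.card P :=
      lt_of_le_of_ne (Nat.le_of_dvd Nat.card_pos (card_dvd_of_le inf_le_right)) fun h =>
        hPB ((Subgroup.eq_of_le_of_card_ge inf_le_right h.ge).ge.trans inf_le_left)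
    have hP9 : Nat.card P ≤ 9 := by
      have h0 : 3 ^ (m - 2) * Nat.card P ≤ 3 ^ (m - 2) * 9 :=
        calc 3 ^ (m - 2) * Nat.card P ≤ Nat.card E * Nat.card P := Nat.mul_le_mul_right _ d.big
          _ ≤ 3 ^ m := hprod.trans hup
          _ = 3 ^ (m - 2) * 9 := by rw [show (9 : ℕ) = 3 ^ 2 by rfl, ← pow_add]; congr 1; omega
      exact Nat.le_of_mul_le_mul_left h0 (by positivity)
    rw [hk]
    have : 3 ^ k < 3 ^ 2 := by rw [← hk]; exact lt_of_lt_of_le hlt hP9
    have := (Nat.pow_lt_pow_iff_right (show 1 < 3 by norm_num)).1 this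
    calc 3 ^ k ≤ 3 ^ 1 := Nat.pow_le_pow_right (by norm_num) (by omega)
      _ = 3 := pow_one 3
  have hne : B' ≠ B := by
    intro h
    have hle : B ≤ (B ⊓ E) ⊔ (B ⊓ P) := by
      intro x hx
      obtain ⟨ee, hee, π, hπ, h1, h2⟩ := hdec x (hB.1.le hx)
      have hx' : z * x * z⁻¹ ∈ B := h ▸ ⟨x, hx, rfl⟩
      obtain ⟨hπB, heB⟩ := hsplit x hx hx' ee hee π hπ h1 h2
      rw [h1]; exact mul_mem (mem_sup_left ⟨heB, hee⟩) (mem_sup_right ⟨hπB, hπ⟩)
    have hcard : Nat.card B ≤ Nat.card (B ⊓ E : Subgroup G) * Nat.card (B ⊓ P : Subgroup G) := by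
      refine le_trans (Nat.le_of_dvd Nat.card_pos (card_dvd_of_le hle)) ?_
      have hn : B ⊓ E ≤ normalizer ((B ⊓ P : Subgroup G) : Set G) := fun y hy =>
        centralizer_le_normalizer _ (mem_centralizer_iff.2 fun v hv =>
          (mem_centralizer_iff.1 (core0_le_centralizer E (hP0 hv.2)) y hy.2).symm)
      rw [← Nat.card_prod]
      refine Nat.card_le_card_of_surjective
        (fun x : (B ⊓ E : Subgroup G) × (B ⊓ P : Subgroup G) => (⟨(x.1 : G) * x.2,
          mul_mem (mem_sup_left x.1.2) (mem_sup_right x.2.2)⟩ :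
          ((B ⊓ E) ⊔ (B ⊓ P) : Subgroup G))) ?_
      rintro ⟨x, hx⟩
      have hx' : x ∈ (((B ⊓ E) ⊔ (B ⊓ P) : Subgroup G) : Set G) := hx
      rw [coe_mul_of_left_le_normalizer_right _ _ hn] at hx'
      obtain ⟨u, hu, v, hv, rfl⟩ := hx'
      exact ⟨(⟨u, hu⟩, ⟨v, hv⟩), rfl⟩
    have hBE : 3 ^ (m - 2) ≤ Nat.card (B ⊓ E : Subgroup G) := by
      refine Nat.le_of_mul_le_mul_right ?_ (show 0 < 3 by norm_num)
      rw [← pow_succ, show m - 2 + 1 = m - 1 by omega]
      exact hB.1.big.trans (hcard.trans (Nat.mul_le_mul_left _ hBP))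
    exact hEB ((Subgroup.eq_of_le_of_card_ge inf_le_right (hEcard.trans hBE)).ge.trans inf_le_left)
  obtain ⟨-, i1', j1', s1', i2', j2', s2', d'⟩ := exists_pairData hamb hA hz' hC hB hB' hne
  -- an element of `C(E)` centralising `B ∩ P` and moving `t`
  have hg : ∃ g, g ∈ centralizer (E : Set G) ∧ z * g = g * z ∧ (∀ π ∈ B ⊓ P, g * π = π * g) ∧
      ¬ g * t = t * g := by
    have hn0 := d.moves d.si d.sj d.ss
    have hnw := d.moves hwi hwj hws
    have hconj : ∀ g, ¬ g * t = t * g → ¬ (i1 * g * i1⁻¹) * t = t * (i1 * g * i1⁻¹) := by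
      intro g hg h
      have hit : Commute i1 t := (Commute.refl i1).mul_right (show Commute i2 i1 from d.ii).symm
      refine hg ?_
      calc g * t = i1⁻¹ * (i1 * g * i1⁻¹) * (i1 * t) := by group
        _ = i1⁻¹ * ((i1 * g * i1⁻¹) * t) * i1 := by rw [hit.eq]; group
        _ = i1⁻¹ * t * i1 * g := by rw [h]; group
        _ = t * g := by rw [mul_assoc i1⁻¹, ← hit.eq, inv_mul_cancel_left]
    have hgen : ∀ π ∈ P, π ≠ 1 → ∃ g, g ∈ centralizer (E : Set G) ∧ z * g = g * z ∧ g * π = π * g ∧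
        ¬ g * t = t * g := by
      intro π hπ hπ1
      have hn : zpowers P1 ≤ normalizer (zpowers P2 : Set G) := zpowers_le.2 (mem_normalizer_zpowers hcm)
      have hx' : π ∈ ((zpowers P1 ⊔ zpowers P2 : Subgroup G) : Set G) := hπ
      rw [coe_mul_of_left_le_normalizer_right _ _ hn] at hx'
      obtain ⟨u, hu, v, hv, rfl⟩ := hx'
      obtain ⟨a, ha, rfl⟩ := mem_zpowers_cases (by norm_num : 0 < 3) hP13 hu
      obtain ⟨b, hb, rfl⟩ := mem_zpowers_cases (by norm_num : 0 < 3) hP23 hv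
      have hzi : Commute z i1 := d.zc d.i1Q
      have hz0 : Commute z (s1 * s2) := (show Commute z s1 from d.zs1).mul_right d.zs2
      have hzw' : Commute z (s1 * w) := (show Commute z s1 from d.zs1).mul_right hzw
      have hS : ∀ k : ℕ, (s1 * w) * (P1 * P2) ^ k = (P1 * P2) ^ k * (s1 * w) := fun k =>
        ((show Commute (s1 * w) (P1 * P2) from hgS).pow_right k).eq
      have hD : ∀ k : ℕ, (i1 * (s1 * w) * i1⁻¹) * (P1 * P2⁻¹) ^ k =
          (P1 * P2⁻¹) ^ k * (i1 * (s1 * w) * i1⁻¹) := fun k =>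
        ((show Commute _ (P1 * P2⁻¹) from hgD).pow_right k).eq
      have hP2i : P2⁻¹ = P2 ^ 2 := inv_eq_of_mul_eq_one_right (by rw [← pow_succ', hP23])
      have hmp : ∀ k : ℕ, (P1 * P2) ^ k = P1 ^ k * P2 ^ k := fun k =>
        (show Commute P1 P2 from hcm).mul_pow k
      have hmd : ∀ k : ℕ, (P1 * P2⁻¹) ^ k = P1 ^ k * P2 ^ (2 * k) := fun k => by
        rw [hP2i, ((show Commute P1 P2 from hcm).pow_right 2).mul_pow, pow_mul]
      have hE0 := mul_mem d.s1E d.s2E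
      have hEw := mul_mem d.s1E hwE
      interval_cases a <;> interval_cases b
      · simp at hπ1
      · exact ⟨_, mul_mem (mul_mem d.i1E hE0) (inv_mem d.i1E), ((hzi.mul_right hz0).mul_right hzi.inv_right).eq,
          by simpa using hgP2, hconj _ hn0⟩
      · exact ⟨_, mul_mem (mul_mem d.i1E hE0) (inv_mem d.i1E), ((hzi.mul_right hz0).mul_right hzi.inv_right).eq,
          by simpa using ((show Commute _ P2 from hgP2).pow_right 2).eq, hconj _ hn0⟩
      · exact ⟨_, hE0, hz0.eq, by simpa using hgP1, hn0⟩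
      · exact ⟨_, hEw, hzw'.eq, by simpa [hmp] using hS 1, hnw⟩
      · exact ⟨_, mul_mem (mul_mem d.i1E hEw) (inv_mem d.i1E), ((hzi.mul_right hzw').mul_right hzi.inv_right).eq,
          by simpa [hmd] using hD 1, hconj _ hnw⟩
      · exact ⟨_, hE0, hz0.eq, by simpa using ((show Commute _ P1 from hgP1).pow_right 2).eq, hn0⟩
      · exact ⟨_, mul_mem (mul_mem d.i1E hEw) (inv_mem d.i1E), ((hzi.mul_right hzw').mul_right hzi.inv_right).eq,
          by
            have := hD 2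
            rw [hmd, show (2 * 2 : ℕ) = 3 + 1 by rfl, pow_succ P2 3, hP23, one_mul] at this
            simpa using this, hconj _ hnw⟩
      · exact ⟨_, hEw, hzw'.eq, by simpa [hmp] using hS 2, hnw⟩
    by_cases h : ∃ π ∈ B ⊓ P, π ≠ 1
    · obtain ⟨π0, hπ0, hπ01⟩ := h
      obtain ⟨g, h1, h2, h3, h4⟩ := hgen π0 hπ0.2 hπ01
      refine ⟨g, h1, h2, fun π hπ => ?_, h4⟩
      have heq : zpowers π0 = B ⊓ P := Subgroup.eq_of_le_of_card_ge (zpowers_le.2 hπ0) (by
        rw [Nat.card_zpowers, orderOf_eq_prime (hPe.2 π0 hπ0.2) hπ01]; exact hBP)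
      rw [← heq] at hπ
      obtain ⟨i, rfl⟩ := hπ
      exact ((show Commute g π0 from h3).zpow_right i).eq
    · push_neg at h
      obtain ⟨g, h1, h2, -, h4⟩ := hgen P1 (mem_sup_left (mem_zpowers P1))
        (fun h => hP1E (h ▸ one_mem E))
      exact ⟨g, h1, h2, fun π hπ => by rw [h π hπ, mul_one, one_mul], h4⟩
  obtain ⟨g, hgE, hgz, hgπ, hgt⟩ := hg
  have hgE' : g ∈ centralizer ((B ⊓ B' : Subgroup G) : Set G) := by
    refine mem_centralizer_iff.2 fun x hx => ?_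
    obtain ⟨ee, hee, π, hπ, h1, h2⟩ := hdec x (hB.1.le hx.1)
    have hx' : z * x * z⁻¹ ∈ B := by
      obtain ⟨y, hy, hyx⟩ := hx.2
      have : z * x * z⁻¹ = y := by
        rw [← hyx]
        show z * (z * y * z⁻¹) * z⁻¹ = y
        rw [hzzi, ← mul_assoc, ← mul_assoc, d.zz, one_mul, mul_assoc, d.zz, mul_one]
      rw [this]; exact hy
    obtain ⟨hπB, -⟩ := hsplit x hx.1 hx' ee hee π hπ h1 h2
    rw [h1]
    exact (((show Commute g ee from (mem_centralizer_iff.1 hgE ee hee).symm).mul_right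
      (hgπ π ⟨hπB, hπ⟩)).eq).symm
  have hcom : ⁅g, t⁆ ∈ twoCore z := by
    rw [commutatorElement_def]
    exact mul_mem (LocalChar.conj_mem_of_mem_normalizer (mem_normalizer_twoCore hgz.symm)
      (mul_mem d.i1Q d.i2Q)) (inv_mem (mul_mem d.i1Q d.i2Q))
  obtain ⟨k, hk⟩ := twoCore_isPGroup z ⟨_, hcom⟩
  have hcop : (orderOf ⁅g, t⁆).Coprime 3 :=
    (((Nat.coprime_primes Nat.prime_two Nat.prime_three).2 (by norm_num)).pow_left k).coprime_dvd_left
      (orderOf_dvd_of_pow_eq_one (congrArg Subtype.val hk))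
  exact hgt (commutatorElement_eq_one_iff_mul_comm.1 (d'.commutator_eq_one hamb hgE' hcop))

/-- Klinger-Mason. -/
theorem twoLocal_rank_le (p : ℕ) [hp : Fact p.Prime] (hp2 : p ≠ 2)
    (hGp : IsOfLocalCharacteristic p G) (hG2 : IsCharacteristicTwoType G) :
    TwoLocalPRankLE p 2 G := by
  classical
  intro M hM A hAc hAp
  by_contra hbig
  let S : Set ℕ := {k | ∃ (M : Subgroup G) (A : Subgroup G), IsTwoLocal M ∧ A ≤ M ∧
    IsElementaryAbelian p A ∧ p ^ k ≤ Nat.card A}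
  haveI := hAc
  have hAel : IsElementaryAbelian p (A.map M.subtype) := by
    refine ⟨inferInstance, ?_⟩
    rintro _ ⟨x, hx, rfl⟩
    rw [← map_pow, hAp x hx, map_one]
  have h3 : 3 ∈ S := by
    refine ⟨M, A.map M.subtype, hM, map_subtype_le _, hAel, ?_⟩
    rw [Subgroup.card_map_of_injective M.subtype_injective]
    obtain ⟨k, hk⟩ := IsPGroup.iff_card.1 (isPGroup_of_pow hAp)
    rw [hk] at hbig ⊢
    refine Nat.pow_le_pow_right hp.out.pos ?_
    by_contra h
    exact hbig (Nat.pow_le_pow_right hp.out.pos (by omega))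
  have hbdd : BddAbove S := ⟨Nat.card G, fun k hk => by
    obtain ⟨M', A', -, -, -, h⟩ := hk
    exact (Nat.lt_pow_self hp.out.one_lt).le.trans (h.trans
      (Nat.le_of_dvd Nat.card_pos (card_subgroup_dvd_card A')))⟩
  set m := sSup S with hm
  obtain ⟨M1, A1, hM1, hA1M, hA1e, hA1c⟩ : m ∈ S := Nat.sSup_mem ⟨3, h3⟩ hbdd
  have hm3 : 3 ≤ m := le_csSup hbdd h3
  have hbound : RankBound p m G := by
    intro F hF u hu1 hu2 hFu
    obtain ⟨k, hk⟩ := IsPGroup.iff_card.1 (isPGroup_of_pow hF.2)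
    rw [hk]
    refine Nat.pow_le_pow_right hp.out.pos (le_csSup hbdd ⟨normalizer (zpowers u : Set G), F,
      ⟨zpowers u, isPGroup_of_pow (zpowers_elem (n := 2) (by rw [pow_two]; exact hu2)).2,
        zpowers_ne_bot.2 hu1, rfl⟩, fun f hf =>
          mem_normalizer_zpowers (mem_centralizer_singleton_iff.1 (hFu hf)), hF, hk.ge⟩)
  have hamb : Ambient p m G := ⟨hp2, hm3, hGp, hbound⟩
  obtain ⟨k, hk⟩ := IsPGroup.iff_card.1 (isPGroup_of_pow hA1e.2)
  have hkm : k ≤ m := le_csSup hbdd ⟨M1, A1, hM1, hA1M, hA1e, hk.ge⟩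
  have hcard : Nat.card A1 = p ^ m := le_antisymm (hk ▸ Nat.pow_le_pow_right hp.out.pos hkm) hA1c
  obtain ⟨T, hT, hTne, hMeq⟩ := hM1
  haveI : Fact (Nat.Prime 2) := ⟨Nat.prime_two⟩
  have hA : Acts p m A1 (pCoreOf 2 M1) := by
    refine ⟨hA1e, hcard, CharP.pCoreOf_isPGroup _, hA1M.trans (CharP.le_normalizer_pCoreOf _), ?_⟩
    intro a ha hfix
    subst hMeq
    refine CharP.eq_one_of_centralizes_pCoreOf (hG2.2 T hT hTne) (hA1M ha) ?_
      (mem_centralizer_iff.2 fun x hx => (hfix x hx).symm)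
    exact ((Nat.coprime_primes hp.out Nat.prime_two).2 hp2).coprime_dvd_left
      (orderOf_dvd_of_pow_eq_one (hA1e.2 a ha))
  obtain ⟨z, -, hz1, hzz, -, hzA⟩ := exists_central_fixed hamb hA
  obtain ⟨hA', hz'⟩ := acts_twoCore hp2 hG2 hA1e hcard hzz hz1 (mem_centralizer_iff.1 hzA)
  obtain ⟨C, hC, -⟩ := exists_sympl hamb hA' hz'
  have hA1ne : A1 ≠ ⊥ := fun h => by
    rw [h, Subgroup.card_bot] at hcard
    have := Nat.one_lt_pow (show m ≠ 0 by omega) hp.out.one_lt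
    omega
  obtain ⟨B, hB, -⟩ := exists_kernel_not_le hamb hA' hC le_rfl hA1ne
  obtain ⟨B', hB', hnot⟩ := exists_kernel_not_le hamb hA' hC hB.1.le (hB.1.ne_bot hA' (by omega))
  obtain ⟨rfl, i1, j1, s1, i2, j2, s2, d⟩ :=
    exists_pairData hamb hA' hz' hC hB hB' (by rintro rfl; exact hnot le_rfl)
  exact no_pair hamb hG2 d

end Cfsg.Agent.Lib.KlingerMason
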